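import Mathlib
import Cfsg.Agent.Lib.Helper48.OSub.Std
import Cfsg.Agent.Lib.Helper50.Isotropic

set_option autoImplicit false
set_option linter.unusedSectionVars false
set_option linter.unusedVariables false
set_option linter.unusedSimpArgs false

/-! Orthogonal decompositions of the odd-dimensional orthogonal space: components. -/

namespace Cfsg.Agent.Lib.Helper48.ODec

open scoped Matrix
open Matrix Cfsg.Agent.Lib.Helper43 Cfsg.Agent.Lib.Helper48.OSub

variable {F : Type*} [Field F] {m t : ℕ}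

theorem bf_sum_left {ι : Type*} (s : Finset ι) (f : ι → Idx m → F) (y : Idx m → F) :
    bf (∑ i ∈ s, f i) y = ∑ i ∈ s, bf (f i) y := by
  classical
  induction s using Finset.induction_on with
  | empty => simp [bf_zero_left]
  | insert a s ha ih => rw [Finset.sum_insert ha, Finset.sum_insert ha, bf_add_left, ih]

theorem bf_sum_right {ι : Type*} (s : Finset ι) (f : ι → Idx m → F) (y : Idx m → F) :
    bf y (∑ i ∈ s, f i) = ∑ i ∈ s, bf y (f i) := by
  rw [bf_comm, bf_sum_left]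
  exact Finset.sum_congr rfl (fun i _ => bf_comm _ _)

theorem Q_sum_orth {ι : Type*} (s : Finset ι) (f : ι → Idx m → F)
    (h : ∀ i ∈ s, ∀ j ∈ s, i ≠ j → bf (f i) (f j) = 0) :
    Cfsg.quadFormOdd m F (∑ i ∈ s, f i) = ∑ i ∈ s, Cfsg.quadFormOdd m F (f i) := by
  classical
  induction s using Finset.induction_on with
  | empty => simp [Q_zero]
  | insert a s ha ih =>
    have hz : ∑ i ∈ s, bf (f a) (f i) = 0 := by
      apply Finset.sum_eq_zero
      intro i hi
      apply h a (Finset.mem_insert_self a s) i (Finset.mem_insert_of_mem hi)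
      rintro rfl
      exact ha hi
    have ih' := ih (fun i hi j hj hij =>
      h i (Finset.mem_insert_of_mem hi) j (Finset.mem_insert_of_mem hj) hij)
    rw [Finset.sum_insert ha, Finset.sum_insert ha, OSub.Q_add, bf_sum_right, ih', hz, add_zero]

/-- an orthogonal decomposition into nondegenerate subspaces -/
structure Dec (D : Fin t → Submodule F (Idx m → F)) : Prop where
  orth : ∀ i j, i ≠ j → ∀ x ∈ D i, ∀ y ∈ D j, bf x y = 0
  nd : ∀ i, ∀ x ∈ D i, (∀ y ∈ D i, bf x y = 0) → x = 0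
  span : ∀ v : Idx m → F, ∃ c : Fin t → (Idx m → F), (∀ i, c i ∈ D i) ∧ ∑ i, c i = v

namespace Dec

variable {D : Fin t → Submodule F (Idx m → F)} (hD : Dec D)

include hD

/-- the components of a vector -/
noncomputable def cmp (v : Idx m → F) : Fin t → (Idx m → F) := Classical.choose (hD.span v)

theorem cmp_mem (v : Idx m → F) (i : Fin t) : hD.cmp v i ∈ D i :=
  (Classical.choose_spec (hD.span v)).1 i

theorem sum_cmp (v : Idx m → F) : ∑ i, hD.cmp v i = v :=
  (Classical.choose_spec (hD.span v)).2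

theorem bf_sum_mem {c : Fin t → (Idx m → F)} (hc : ∀ i, c i ∈ D i) (i : Fin t) {y : Idx m → F}
    (hy : y ∈ D i) : bf (∑ j, c j) y = bf (c i) y := by
  rw [bf_sum_left]
  apply Finset.sum_eq_single i
  · intro j _ hji
    exact hD.orth j i hji _ (hc j) _ hy
  · intro h; exact absurd (Finset.mem_univ i) h

theorem unique {c c' : Fin t → (Idx m → F)} (hc : ∀ i, c i ∈ D i) (hc' : ∀ i, c' i ∈ D i)
    (h : ∑ i, c i = ∑ i, c' i) : c = c' := by
  funext i
  have h1 : c i - c' i = 0 := by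
    apply hD.nd i _ ((D i).sub_mem (hc i) (hc' i))
    intro y hy
    rw [bf_sub_left, ← hD.bf_sum_mem hc i hy, ← hD.bf_sum_mem hc' i hy, h, sub_self]
  exact sub_eq_zero.mp h1

theorem cmp_eq {v : Idx m → F} {c : Fin t → (Idx m → F)} (hc : ∀ i, c i ∈ D i)
    (h : ∑ i, c i = v) : hD.cmp v = c :=
  hD.unique (hD.cmp_mem v) hc (by rw [hD.sum_cmp, h])

theorem cmp_add (u v : Idx m → F) : hD.cmp (u + v) = hD.cmp u + hD.cmp v := by
  apply hD.cmp_eq
  · intro i; exact (D i).add_mem (hD.cmp_mem u i) (hD.cmp_mem v i)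
  · simp only [Pi.add_apply]
    rw [Finset.sum_add_distrib, hD.sum_cmp, hD.sum_cmp]

theorem cmp_smul (a : F) (v : Idx m → F) : hD.cmp (a • v) = a • hD.cmp v := by
  apply hD.cmp_eq
  · intro i; exact (D i).smul_mem a (hD.cmp_mem v i)
  · simp only [Pi.smul_apply]
    rw [← Finset.smul_sum, hD.sum_cmp]

theorem cmp_zero : hD.cmp (0 : Idx m → F) = 0 := by
  apply hD.cmp_eq
  · intro i; exact (D i).zero_mem
  · simp

theorem cmp_neg (v : Idx m → F) : hD.cmp (-v) = -hD.cmp v := by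
  have := hD.cmp_smul (-1) v
  simpa using this

theorem cmp_sub (u v : Idx m → F) : hD.cmp (u - v) = hD.cmp u - hD.cmp v := by
  rw [sub_eq_add_neg, cmp_add, cmp_neg, ← sub_eq_add_neg]

theorem cmp_add_apply (u v : Idx m → F) (i : Fin t) :
    hD.cmp (u + v) i = hD.cmp u i + hD.cmp v i := by rw [cmp_add]; rfl

theorem cmp_sub_apply (u v : Idx m → F) (i : Fin t) :
    hD.cmp (u - v) i = hD.cmp u i - hD.cmp v i := by rw [cmp_sub]; rfl

theorem cmp_smul_apply (a : F) (v : Idx m → F) (i : Fin t) :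
    hD.cmp (a • v) i = a • hD.cmp v i := by rw [cmp_smul]; rfl

theorem cmp_neg_apply (v : Idx m → F) (i : Fin t) :
    hD.cmp (-v) i = -hD.cmp v i := by rw [cmp_neg]; rfl

theorem cmp_of_mem {i : Fin t} {x : Idx m → F} (hx : x ∈ D i) : hD.cmp x = Pi.single i x := by
  classical
  apply hD.cmp_eq
  · intro j
    by_cases hji : j = i
    · subst hji; rw [Pi.single_eq_same]; exact hx
    · rw [Pi.single_eq_of_ne hji]; exact (D j).zero_mem
  · rw [Finset.sum_pi_single']
    simp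

theorem cmp_self {i : Fin t} {x : Idx m → F} (hx : x ∈ D i) : hD.cmp x i = x := by
  classical
  rw [hD.cmp_of_mem hx, Pi.single_eq_same]

theorem cmp_other {i j : Fin t} {x : Idx m → F} (hx : x ∈ D i) (hji : j ≠ i) :
    hD.cmp x j = 0 := by
  classical
  rw [hD.cmp_of_mem hx, Pi.single_eq_of_ne hji]

theorem bf_cmp {v d : Idx m → F} {i : Fin t} (hd : d ∈ D i) : bf v d = bf (hD.cmp v i) d := by
  conv_lhs => rw [← hD.sum_cmp v]
  exact hD.bf_sum_mem (hD.cmp_mem v) i hd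

theorem bf_cmp' {v d : Idx m → F} {i : Fin t} (hd : d ∈ D i) : bf d v = bf d (hD.cmp v i) := by
  rw [bf_comm, hD.bf_cmp hd, bf_comm]

theorem Q_eq_sum (v : Idx m → F) :
    Cfsg.quadFormOdd m F v = ∑ i, Cfsg.quadFormOdd m F (hD.cmp v i) := by
  conv_lhs => rw [← hD.sum_cmp v]
  apply Q_sum_orth
  intro i _ j _ hij
  exact hD.orth i j hij _ (hD.cmp_mem v i) _ (hD.cmp_mem v j)

theorem mem_of_cmp {v : Idx m → F} {i : Fin t} (h : ∀ j, j ≠ i → hD.cmp v j = 0) : v ∈ D i := by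
  rw [← hD.sum_cmp v, Finset.sum_eq_single i (fun j _ hj => h j hj)
    (fun h => absurd (Finset.mem_univ i) h)]
  exact hD.cmp_mem v i

theorem disjoint {i j : Fin t} (hij : i ≠ j) {x : Idx m → F} (hi : x ∈ D i) (hj : x ∈ D j) :
    x = 0 :=
  hD.nd i x hi (fun y hy => by rw [bf_comm]; exact hD.orth i j hij y hy x hj)

theorem eq_of_mem {i j : Fin t} {x : Idx m → F} (hi : x ∈ D i) (hj : x ∈ D j) (hx : x ≠ 0) :
    i = j := by
  by_contra hij
  exact hx (hD.disjoint hij hi hj)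

theorem exists_cmp_ne {v : Idx m → F} (hv : v ≠ 0) : ∃ i, hD.cmp v i ≠ 0 := by
  by_contra hcon
  push Not at hcon
  apply hv
  rw [← hD.sum_cmp v]
  exact Finset.sum_eq_zero (fun i _ => hcon i)

theorem exists_cmp_ne_of_notMem {v : Idx m → F} {i : Fin t} (hv : v ∉ D i) :
    ∃ j, j ≠ i ∧ hD.cmp v j ≠ 0 := by
  by_contra hcon
  push Not at hcon
  exact hv (hD.mem_of_cmp hcon)

/-- the part of `v` orthogonal to the block `D i` -/
theorem bf_sub_cmp {v d : Idx m → F} {i : Fin t} (hd : d ∈ D i) : bf (v - hD.cmp v i) d = 0 := by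
  rw [bf_sub_left, ← hD.bf_cmp hd, sub_self]

end Dec

variable (h2 : (2 : F) ≠ 0)

theorem act_sum {ι : Type*} (g : OG m h2) (s : Finset ι) (f : ι → Idx m → F) :
    act h2 g (∑ i ∈ s, f i) = ∑ i ∈ s, act h2 g (f i) :=
  map_sum (linOf (Qf m h2) g) f s

theorem act_eq_zero (g : OG m h2) {v : Idx m → F} (h : act h2 g v = 0) : v = 0 := by
  apply act_injective h2 g
  rw [h, act_zero]

/-- the block-permuting elements -/
def StabD (D : Fin t → Submodule F (Idx m → F)) (g : OG m h2) : Prop :=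
  ∃ σ : Equiv.Perm (Fin t), ∀ i, ∀ x ∈ D i, act h2 g x ∈ D (σ i)

variable {D : Fin t → Submodule F (Idx m → F)} (hD : Dec D)

include hD

theorem cmp_act {g : OG m h2} {σ : Equiv.Perm (Fin t)}
    (hσ : ∀ i, ∀ x ∈ D i, act h2 g x ∈ D (σ i)) (v : Idx m → F) (i : Fin t) :
    hD.cmp (act h2 g v) (σ i) = act h2 g (hD.cmp v i) := by
  have h1 : hD.cmp (act h2 g v) = fun j => act h2 g (hD.cmp v (σ.symm j)) := by
    apply hD.cmp_eq
    · intro j
      have := hσ (σ.symm j) _ (hD.cmp_mem v (σ.symm j))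
      rwa [Equiv.apply_symm_apply] at this
    · rw [Equiv.sum_comp σ.symm (fun j => act h2 g (hD.cmp v j)), ← act_sum, hD.sum_cmp]
  rw [h1]
  simp

theorem inv_mem_of_stab {g : OG m h2} {σ : Equiv.Perm (Fin t)}
    (hσ : ∀ i, ∀ x ∈ D i, act h2 g x ∈ D (σ i)) (i : Fin t) {y : Idx m → F} (hy : y ∈ D (σ i)) :
    act h2 g⁻¹ y ∈ D i := by
  apply hD.mem_of_cmp
  intro j hji
  apply act_eq_zero h2 g
  rw [← cmp_act h2 hD hσ, act_act_inv]
  apply hD.cmp_other hy
  intro h
  exact hji (σ.injective h)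

theorem StabD.one : StabD h2 D (1 : OG m h2) :=
  ⟨1, fun i x hx => by rw [act_one]; exact hx⟩

theorem StabD.mul {g h : OG m h2} (hg : StabD h2 D g) (hh : StabD h2 D h) :
    StabD h2 D (g * h) := by
  obtain ⟨σ, hσ⟩ := hg
  obtain ⟨τ, hτ⟩ := hh
  refine ⟨σ * τ, fun i x hx => ?_⟩
  rw [act_mul, Equiv.Perm.mul_apply]
  exact hσ _ _ (hτ i x hx)

theorem StabD.inv {g : OG m h2} (hg : StabD h2 D g) : StabD h2 D g⁻¹ := by
  obtain ⟨σ, hσ⟩ := hg
  refine ⟨σ⁻¹, fun i x hx => ?_⟩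
  apply inv_mem_of_stab h2 hD hσ
  have : σ (σ⁻¹ i) = i := by simp
  rw [this]
  exact hx

theorem stabD_iff_mem (g : OG m h2) :
    StabD h2 D g ↔ (g : GL (Idx m) F) ∈ Cfsg.Geo.decompositionStabilizer D := by
  constructor
  · rintro ⟨σ, hσ⟩
    refine ⟨σ, fun i => ?_⟩
    ext y
    rw [Submodule.mem_map]
    constructor
    · rintro ⟨x, hx, rfl⟩
      exact hσ i x hx
    · intro hy
      exact ⟨act h2 g⁻¹ y, inv_mem_of_stab h2 hD hσ i hy, act_act_inv h2 g y⟩
  · rintro ⟨σ, hσ⟩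
    refine ⟨σ, fun i x hx => ?_⟩
    rw [← hσ i]
    exact Submodule.mem_map_of_mem hx

end Cfsg.Agent.Lib.Helper48.ODec
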