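import Mathlib
import Cfsg.Agent.Lib.Helper48.ODec.Decomp

set_option autoImplicit false
set_option linter.unusedSectionVars false
set_option linter.unusedVariables false
set_option linter.unusedSimpArgs false

/-! Quadratic geometry inside a nondegenerate subspace. -/

namespace Cfsg.Agent.Lib.Helper48.ODec

open scoped Matrix
open Matrix Module Cfsg.Agent.Lib.Helper48.OSub
open Cfsg.Agent.Lib.Helper43 hiding Q_add Q_smul

variable {F : Type*} [Field F] {m : ℕ}

local notation "Q" => Cfsg.quadFormOdd _ _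

theorem Q_sub (u v : Idx m → F) : Q (u - v) = Q u + Q v - bf u v := by
  rw [sub_eq_add_neg, OSub.Q_add, Q_neg, bf_neg_right]; ring

/-- nondegenerate subspaces -/
def ND (W : Submodule F (Idx m → F)) : Prop := ∀ x ∈ W, (∀ y ∈ W, bf x y = 0) → x = 0

variable {W : Submodule F (Idx m → F)}

theorem ND.exists_ne (hW : ND W) {x : Idx m → F} (hx : x ∈ W) (hx0 : x ≠ 0) :
    ∃ y ∈ W, bf x y ≠ 0 := by
  by_contra h
  push Not at h
  exact hx0 (hW x hx h)

theorem ND.exists_one (hW : ND W) {x : Idx m → F} (hx : x ∈ W) (hx0 : x ≠ 0) :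
    ∃ y ∈ W, bf x y = 1 := by
  obtain ⟨y, hy, h⟩ := hW.exists_ne hx hx0
  exact ⟨(bf x y)⁻¹ • y, W.smul_mem _ hy, by rw [bf_smul_right, inv_mul_cancel₀ h]⟩

theorem ND.exists_partner (hW : ND W) {x : Idx m → F} (hx : x ∈ W) (hx0 : x ≠ 0)
    (hQ : Q x = 0) : ∃ y ∈ W, Q y = 0 ∧ bf x y = 1 := by
  obtain ⟨y, hy, h⟩ := hW.exists_one hx hx0
  refine ⟨y - Q y • x, W.sub_mem hy (W.smul_mem _ hx), ?_, ?_⟩
  · rw [Q_sub, Q_smul, hQ, bf_smul_right, bf_comm y x, h]; ring
  · rw [bf_sub_right, bf_smul_right, bf_self, hQ, h]; ring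

/-- the residual of `v` with respect to a hyperbolic pair -/
def res (x y v : Idx m → F) : Idx m → F := v - bf v y • x - bf v x • y

theorem res_mem {x y v : Idx m → F} (hx : x ∈ W) (hy : y ∈ W) (hv : v ∈ W) : res x y v ∈ W :=
  W.sub_mem (W.sub_mem hv (W.smul_mem _ hx)) (W.smul_mem _ hy)

theorem bf_res_x {x y : Idx m → F} (hQx : Q x = 0) (hxy : bf x y = 1) (v : Idx m → F) :
    bf (res x y v) x = 0 := by
  unfold res
  rw [bf_sub_left, bf_sub_left, bf_smul_left, bf_smul_left, bf_self, hQx, bf_comm y x, hxy]; ring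

theorem bf_res_y {x y : Idx m → F} (hQy : Q y = 0) (hxy : bf x y = 1) (v : Idx m → F) :
    bf (res x y v) y = 0 := by
  unfold res
  rw [bf_sub_left, bf_sub_left, bf_smul_left, bf_smul_left, bf_self, hQy, hxy]; ring

theorem eq_res_add (x y v : Idx m → F) : v = bf v y • x + bf v x • y + res x y v := by
  unfold res; module

theorem bf_res_of_perp {x y r : Idx m → F} (hrx : bf r x = 0) (hry : bf r y = 0) (v : Idx m → F) :
    bf r (res x y v) = bf r v := by
  unfold res
  rw [bf_sub_right, bf_sub_right, bf_smul_right, bf_smul_right, hrx, hry]; ring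

section fin

variable [Fintype F] (h2 : (2 : F) ≠ 0)

/-- the functional `bf a ·` -/
noncomputable def bfL (a : Idx m → F) : (Idx m → F) →ₗ[F] F := QuadraticMap.polarBilin (Qf m h2) a

theorem bfL_apply (a x : Idx m → F) : bfL h2 a x = bf a x := pb_eq h2 a x

include h2

/-- `W ∩ a^⊥` -/
noncomputable def perp (W : Submodule F (Idx m → F)) (a : Idx m → F) : Submodule F (Idx m → F) :=
  W ⊓ LinearMap.ker (bfL h2 a)

theorem mem_perp {W : Submodule F (Idx m → F)} {a x : Idx m → F} :
    x ∈ perp h2 W a ↔ x ∈ W ∧ bf a x = 0 := by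
  unfold perp
  rw [Submodule.mem_inf, LinearMap.mem_ker, bfL_apply]

theorem finrank_perp (W : Submodule F (Idx m → F)) (a : Idx m → F) :
    finrank F W ≤ finrank F (perp h2 W a) + 1 := by
  set f : W →ₗ[F] F := (bfL h2 a).domRestrict W with hf
  have h1 := LinearMap.finrank_range_add_finrank_ker f
  have h3 : finrank F (LinearMap.range f) ≤ 1 := by
    have := Submodule.finrank_le (LinearMap.range f)
    rwa [Module.finrank_self] at this
  have h4 : (LinearMap.ker f).map W.subtype = perp h2 W a := by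
    ext x
    rw [Submodule.mem_map, mem_perp]
    constructor
    · rintro ⟨y, hy, rfl⟩
      refine ⟨y.2, ?_⟩
      rw [LinearMap.mem_ker, hf, LinearMap.domRestrict_apply, bfL_apply] at hy
      exact hy
    · rintro ⟨hx, hax⟩
      refine ⟨⟨x, hx⟩, ?_, rfl⟩
      rw [LinearMap.mem_ker, hf, LinearMap.domRestrict_apply, bfL_apply]
      exact hax
  have h5 : finrank F ((LinearMap.ker f).map W.subtype) = finrank F (LinearMap.ker f) :=
    Submodule.finrank_map_subtype_eq W (LinearMap.ker f)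
  rw [h4] at h5
  omega

theorem exists_singular (W : Submodule F (Idx m → F)) (h : 3 ≤ finrank F W) :
    ∃ x ∈ W, x ≠ 0 ∧ Q x = 0 := by
  obtain ⟨v, hv0, hv⟩ := Cfsg.Agent.Lib.Helper50.exists_isotropic ((Qf m h2).comp W.subtype) h
  exact ⟨v.1, v.2, fun h => hv0 (Subtype.ext h), hv⟩

theorem exists_singular_perp2 (W : Submodule F (Idx m → F)) (a b : Idx m → F)
    (h : 5 ≤ finrank F W) : ∃ x ∈ W, x ≠ 0 ∧ Q x = 0 ∧ bf a x = 0 ∧ bf b x = 0 := by
  have h1 := finrank_perp h2 W a
  have h3 := finrank_perp h2 (perp h2 W a) b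
  obtain ⟨x, hx, hx0, hQ⟩ := exists_singular h2 (perp h2 (perp h2 W a) b) (by omega)
  rw [mem_perp, mem_perp] at hx
  exact ⟨x, hx.1.1, hx0, hQ, hx.1.2, hx.2⟩

theorem exists_ne_zero_perp2 (W : Submodule F (Idx m → F)) (a b : Idx m → F)
    (h : 3 ≤ finrank F W) : ∃ x ∈ W, x ≠ 0 ∧ bf a x = 0 ∧ bf b x = 0 := by
  have h1 := finrank_perp h2 W a
  have h3 := finrank_perp h2 (perp h2 W a) b
  have h4 : 0 < finrank F (perp h2 (perp h2 W a) b) := by omega
  obtain ⟨x, hx0⟩ := Module.finrank_pos_iff_exists_ne_zero.mp h4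
  have hx := x.2
  rw [mem_perp, mem_perp] at hx
  exact ⟨x.1, hx.1.1, fun h => hx0 (Subtype.ext h), hx.1.2, hx.2⟩

theorem finrank_le_two_of_le_span {W : Submodule F (Idx m → F)} (a b : Idx m → F)
    (h : ∀ v ∈ W, ∃ α β : F, v = α • a + β • b) : finrank F W ≤ 2 := by
  classical
  have h1 : W ≤ Submodule.span F (({a, b} : Finset (Idx m → F)) : Set (Idx m → F)) := by
    intro v hv
    obtain ⟨α, β, rfl⟩ := h v hv
    apply Submodule.add_mem
    · exact Submodule.smul_mem _ _ (Submodule.subset_span (by simp))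
    · exact Submodule.smul_mem _ _ (Submodule.subset_span (by simp))
  have h3 := Submodule.finrank_mono h1
  have h4 : finrank F (Submodule.span F (({a, b} : Finset (Idx m → F)) : Set (Idx m → F))) ≤
      ({a, b} : Finset (Idx m → F)).card := finrank_span_finset_le_card _
  have h5 : ({a, b} : Finset (Idx m → F)).card ≤ 2 := Finset.card_le_two
  omega

/-- an anisotropic vector orthogonal to a hyperbolic pair -/
theorem ND.exists_aniso_res (hW : ND W) (h3 : 3 ≤ finrank F W) {x y : Idx m → F} (hx : x ∈ W)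
    (hy : y ∈ W) (hQx : Q x = 0) (hQy : Q y = 0) (hxy : bf x y = 1) :
    ∃ n ∈ W, bf n x = 0 ∧ bf n y = 0 ∧ Q n ≠ 0 := by
  -- a nonzero residual vector
  have hr : ∃ r ∈ W, r ≠ 0 ∧ bf r x = 0 ∧ bf r y = 0 := by
    by_contra hcon
    push Not at hcon
    have : finrank F W ≤ 2 := by
      apply finrank_le_two_of_le_span h2 x y
      intro v hv
      refine ⟨bf v y, bf v x, ?_⟩
      have h0 : res x y v = 0 := by
        by_contra hne
        exact hcon (res x y v) (res_mem hx hy hv) hne (bf_res_x hQx hxy v) (bf_res_y hQy hxy v)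
      have := eq_res_add x y v
      rw [h0, add_zero] at this
      exact this
    omega
  obtain ⟨r, hrW, hr0, hrx, hry⟩ := hr
  obtain ⟨y', hy', hne⟩ := hW.exists_ne hrW hr0
  set r' := res x y y' with hr'
  have hr'W : r' ∈ W := res_mem hx hy hy'
  have hr'x : bf r' x = 0 := bf_res_x hQx hxy y'
  have hr'y : bf r' y = 0 := bf_res_y hQy hxy y'
  have hrr' : bf r r' ≠ 0 := by rw [hr', bf_res_of_perp hrx hry]; exact hne
  by_cases h1 : Q r = 0
  · by_cases h3 : Q r' = 0
    · refine ⟨r + r', W.add_mem hrW hr'W, ?_, ?_, ?_⟩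
      · rw [bf_add_left, hrx, hr'x, add_zero]
      · rw [bf_add_left, hry, hr'y, add_zero]
      · rw [OSub.Q_add, h1, h3, zero_add, zero_add]; exact hrr'
    · exact ⟨r', hr'W, hr'x, hr'y, h3⟩
  · exact ⟨r, hrW, hrx, hry, h1⟩

/-- a singular vector not orthogonal to a given nonzero vector -/
theorem ND.exists_singular_ne (hW : ND W) (h3 : 3 ≤ finrank F W) {y : Idx m → F} (hy : y ∈ W)
    (hy0 : y ≠ 0) : ∃ a ∈ W, Q a = 0 ∧ bf y a ≠ 0 := by
  by_cases hQy : Q y = 0
  · obtain ⟨a, ha, hQa, hya⟩ := hW.exists_partner hy hy0 hQy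
    exact ⟨a, ha, hQa, by rw [hya]; exact one_ne_zero⟩
  obtain ⟨a₀, ha₀, ha₀0, hQa₀⟩ := exists_singular h2 W h3
  by_cases h0 : bf y a₀ = 0
  swap
  · exact ⟨a₀, ha₀, hQa₀, h0⟩
  obtain ⟨a₁, ha₁, hQa₁, h01⟩ := hW.exists_partner ha₀ ha₀0 hQa₀
  by_cases h1 : bf y a₁ = 0
  swap
  · exact ⟨a₁, ha₁, hQa₁, h1⟩
  refine ⟨a₁ - y - Q y • a₀, W.sub_mem (W.sub_mem ha₁ hy) (W.smul_mem _ ha₀), ?_, ?_⟩
  · rw [Q_sub, Q_sub, Q_smul, hQa₁, hQa₀, bf_sub_left, bf_smul_right, bf_smul_right,
      bf_comm a₁ y, h1, bf_comm a₁ a₀, h01, h0]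
    ring
  · rw [bf_sub_right, bf_sub_right, bf_smul_right, h1, h0, bf_self]
    intro h
    apply hQy
    have : (2 : F) * Q y = 0 := by linear_combination -h
    rcases mul_eq_zero.mp this with h | h
    · exact absurd h h2
    · exact h

/-- a nondegenerate subspace of dimension at least two represents every nonzero scalar -/
theorem ND.exists_norm_eq (hW : ND W) (h2' : 2 ≤ finrank F W) {c : F} (hc : c ≠ 0) :
    ∃ b ∈ W, Q b = c := by
  let Q' : QuadraticForm F (W × F) :=
    QuadraticMap.prod ((Qf m h2).comp W.subtype) ((-c) • QuadraticMap.sq)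
  have h3 : 3 ≤ Module.finrank F (W × F) := by
    rw [Module.finrank_prod, Module.finrank_self]; omega
  obtain ⟨⟨v, z⟩, hne, hvz⟩ := Cfsg.Agent.Lib.Helper50.exists_isotropic Q' h3
  have hvz'' : (Qf m h2) (v : Idx m → F) + -(c * (z * z)) = 0 := by
    simpa [Q', QuadraticMap.prod_apply] using hvz
  have hvz' : Q (v : Idx m → F) + (-c) * (z * z) = 0 := by
    rw [Qf_apply] at hvz''
    linear_combination hvz''
  by_cases hz : z = 0
  · subst hz
    have hv0 : (v : Idx m → F) ≠ 0 := by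
      intro h
      apply hne
      have : v = 0 := Subtype.ext h
      rw [this]; rfl
    have hQv : Q (v : Idx m → F) = 0 := by simpa using hvz'
    obtain ⟨v', hv', hQv', hvv'⟩ := hW.exists_partner v.2 hv0 hQv
    refine ⟨(v : Idx m → F) + c • v', W.add_mem v.2 (W.smul_mem _ hv'), ?_⟩
    rw [OSub.Q_add, Q_smul, hQv, hQv', bf_smul_right, hvv']; ring
  · refine ⟨z⁻¹ • (v : Idx m → F), W.smul_mem _ v.2, ?_⟩
    rw [Q_smul]
    have : Q (v : Idx m → F) = c * (z * z) := by linear_combination hvz'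
    rw [this]
    field_simp

/-- the orthogonal complement of an anisotropic vector is nondegenerate -/
theorem ND.perp_nd (hW : ND W) {a : Idx m → F} (ha : a ∈ W) (hQa : Q a ≠ 0) :
    ND (perp h2 W a) := by
  intro x hx hall
  rw [mem_perp] at hx
  apply hW x hx.1
  intro y hy
  have h2Q : (2 : F) * Q a ≠ 0 := mul_ne_zero h2 hQa
  set y' := y - ((2 * Q a)⁻¹ * bf a y) • a with hy'
  have hy'W : y' ∈ perp h2 W a := by
    rw [mem_perp]
    refine ⟨W.sub_mem hy (W.smul_mem _ ha), ?_⟩
    rw [hy', bf_sub_right, bf_smul_right, bf_self]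
    field_simp
    ring
  have := hall y' hy'W
  rw [hy', bf_sub_right, bf_smul_right, bf_comm x a, hx.2, mul_zero, sub_zero] at this
  exact this

/-- a basis of a three-dimensional nondegenerate space -/
theorem span3 {W : Submodule F (Idx m → F)} (hW3 : finrank F W = 3) {x y n : Idx m → F}
    (hx : x ∈ W) (hy : y ∈ W) (hn : n ∈ W) (hQx : Q x = 0) (hQy : Q y = 0) (hxy : bf x y = 1)
    (hnx : bf n x = 0) (hny : bf n y = 0) (hQn : Q n ≠ 0) :
    ∀ v ∈ W, v = bf v y • x + bf v x • y + ((2 * Q n)⁻¹ * bf v n) • n := by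
  have h2Q : (2 : F) * Q n ≠ 0 := mul_ne_zero h2 hQn
  have hxx : bf x x = 0 := by rw [bf_self, hQx, mul_zero]
  have hyy : bf y y = 0 := by rw [bf_self, hQy, mul_zero]
  have hyx : bf y x = 1 := by rw [bf_comm]; exact hxy
  have hxn : bf x n = 0 := by rw [bf_comm]; exact hnx
  have hyn : bf y n = 0 := by rw [bf_comm]; exact hny
  set b : Fin 3 → W := ![⟨x, hx⟩, ⟨y, hy⟩, ⟨n, hn⟩] with hb
  have key : ∀ c : Fin 3 → F, ((∑ i, c i • b i : W) : Idx m → F) = c 0 • x + c 1 • y + c 2 • n := by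
    intro c
    rw [Fin.sum_univ_three]
    simp [hb]
  have hli : LinearIndependent F b := by
    rw [Fintype.linearIndependent_iff]
    intro c hc
    have h0 : c 0 • x + c 1 • y + c 2 • n = 0 := by
      rw [← key c, hc]; rfl
    have e0 : c 0 = 0 := by
      have := congrArg (fun v => bf v y) h0
      simp only [bf_add_left, bf_smul_left, hxy, hyy, hny, bf_zero_left] at this
      linear_combination this
    have e1 : c 1 = 0 := by
      have := congrArg (fun v => bf v x) h0
      simp only [bf_add_left, bf_smul_left, hxx, hyx, hnx, bf_zero_left] at this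
      linear_combination this
    have e2 : c 2 = 0 := by
      have := congrArg (fun v => bf v n) h0
      simp only [bf_add_left, bf_smul_left, hxn, hyn, bf_self, bf_zero_left] at this
      have h' : c 2 * (2 * Q n) = 0 := by linear_combination this
      rcases mul_eq_zero.mp h' with h | h
      · exact h
      · exact absurd h h2Q
    intro i
    fin_cases i
    · exact e0
    · exact e1
    · exact e2
  have htop := hli.span_eq_top_of_card_eq_finrank' (by rw [Fintype.card_fin, hW3])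
  intro v hv
  have hv' : (⟨v, hv⟩ : W) ∈ Submodule.span F (Set.range b) := by rw [htop]; exact Submodule.mem_top
  obtain ⟨c, hc⟩ := (Submodule.mem_span_range_iff_exists_fun F).mp hv'
  have hv0 : v = c 0 • x + c 1 • y + c 2 • n := by
    rw [← key c, hc]
  have e0 : bf v y = c 0 := by
    rw [hv0]
    simp only [bf_add_left, bf_smul_left, hxy, hyy, hny]; ring
  have e1 : bf v x = c 1 := by
    rw [hv0]
    simp only [bf_add_left, bf_smul_left, hxx, hyx, hnx]; ring
  have e2 : bf v n = c 2 * (2 * Q n) := by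
    rw [hv0]
    simp only [bf_add_left, bf_smul_left, hxn, hyn, bf_self]; ring
  rw [e0, e1, e2]
  have : (2 * Q n)⁻¹ * (c 2 * (2 * Q n)) = c 2 := by field_simp
  rw [this]
  exact hv0

end fin

end Cfsg.Agent.Lib.Helper48.ODec
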