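import Mathlib
import Cfsg.Agent.Lib.Helper48.ODec.Quad

set_option autoImplicit false
set_option linter.unusedSectionVars false
set_option linter.unusedVariables false
set_option linter.unusedSimpArgs false

/-! The Siegel-element calculus for overgroups of a decomposition stabiliser. -/

namespace Cfsg.Agent.Lib.Helper48.ODec

open scoped Matrix
open Matrix Module Cfsg.Agent.Lib.Helper48.OSub
open Cfsg.Agent.Lib.Helper43 hiding Q_add Q_smul

variable {F : Type*} [Field F] [Fintype F] {m t : ℕ} (h2 : (2 : F) ≠ 0)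

local notation "Q" => Cfsg.quadFormOdd _ _

/-- the setup: `K` lies between the decomposition stabiliser and `Ω`, and is not `Ω` -/
structure DSetup (D : Fin t → Submodule F (Idx m → F)) (k : ℕ) (K : Subgroup (OG m h2)) :
    Prop where
  hm : 6 ≤ m
  dec : Dec D
  hk : 3 ≤ k
  fr : ∀ i, finrank F (D i) = k
  iso : ∀ i j, ∃ e : D i ≃ₗ[F] D j, ∀ x : D i,
    Cfsg.quadFormOdd m F ((e x : D j) : Idx m → F) = Cfsg.quadFormOdd m F (x : Idx m → F)
  two_le : 2 ≤ t
  hex : 5 ≤ k ∨ ∃ s : F, s ≠ 0 ∧ s ^ 2 ≠ 1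
  hKΩ : K ≤ Cfsg.Omega F ⇑(Qf m h2)
  hH : ∀ g : OG m h2, g ∈ Cfsg.Omega F ⇑(Qf m h2) → StabD h2 D g → g ∈ K
  hne : ∃ g, g ∈ Cfsg.Omega F ⇑(Qf m h2) ∧ g ∉ K

/-- `z` is a Siegel direction at `v` -/
def Zs (K : Subgroup (OG m h2)) (v z : Idx m → F) : Prop := bf v z = 0 ∧ sg h2 v z ∈ K

variable {h2} {K : Subgroup (OG m h2)}

theorem Zs.congr {v z z' : Idx m → F} (hz : Zs h2 K v z) (e : z = z') : Zs h2 K v z' := e ▸ hz

theorem Zs.add {v z z' : Idx m → F} (hv : Q v = 0) (hz : Zs h2 K v z) (hz' : Zs h2 K v z') :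
    Zs h2 K v (z + z') := by
  refine ⟨by rw [bf_add_right, hz.1, hz'.1, add_zero], ?_⟩
  rw [sg_add h2 v z z' hv hz.1 hz'.1]
  exact K.mul_mem hz.2 hz'.2

theorem Zs.neg {v z : Idx m → F} (hv : Q v = 0) (hz : Zs h2 K v z) : Zs h2 K v (-z) := by
  refine ⟨by rw [bf_neg_right, hz.1, neg_zero], ?_⟩
  rw [← sg_inv h2 v z hv hz.1]
  exact K.inv_mem hz.2

theorem Zs.sub {v z z' : Idx m → F} (hv : Q v = 0) (hz : Zs h2 K v z) (hz' : Zs h2 K v z') :
    Zs h2 K v (z - z') := by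
  rw [sub_eq_add_neg]
  exact hz.add hv (hz'.neg hv)

theorem Zs.zero {v : Idx m → F} (hv : Q v = 0) : Zs h2 K v 0 := by
  refine ⟨bf_zero_right v, ?_⟩
  rw [sg_zero h2 v hv]
  exact K.one_mem

theorem Zs.sum {ι : Type*} {v : Idx m → F} (hv : Q v = 0) (s : Finset ι) (f : ι → Idx m → F)
    (h : ∀ i ∈ s, Zs h2 K v (f i)) : Zs h2 K v (∑ i ∈ s, f i) := by
  classical
  induction s using Finset.induction_on with
  | empty => simpa using Zs.zero hv
  | insert a s ha ih =>
    rw [Finset.sum_insert ha]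
    exact (h a (Finset.mem_insert_self a s)).add hv
      (ih (fun i hi => h i (Finset.mem_insert_of_mem hi)))

theorem Zs.conj {v z : Idx m → F} (hv : Q v = 0) (hz : Zs h2 K v z) {g : OG m h2} (hg : g ∈ K) :
    Zs h2 K (act h2 g v) (act h2 g z) := by
  refine ⟨by rw [bf_act, hz.1], ?_⟩
  rw [← sg_conj h2 g v z hv hz.1]
  exact K.mul_mem (K.mul_mem hg hz.2) (K.inv_mem hg)

theorem Zs.fix {v z : Idx m → F} (hv : Q v = 0) (hz : Zs h2 K v z) {g : OG m h2} (hg : g ∈ K)
    (hfix : act h2 g v = v) : Zs h2 K v (act h2 g z) := by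
  have := hz.conj hv hg
  rwa [hfix] at this

theorem Zs.smul_self {v : Idx m → F} (hv : Q v = 0) (c : F) : Zs h2 K v (c • v) := by
  have h0 : bf v (c • v) = 0 := by rw [bf_smul_right, bf_self, hv]; ring
  refine ⟨h0, ?_⟩
  have := sg_add_smul h2 v 0 c hv (bf_zero_right v)
  rw [zero_add] at this
  rw [this, sg_zero h2 v hv]
  exact K.one_mem

/-- the square trick -/
theorem Zs.sq {v z : Idx m → F} (hv : Q v = 0) (hz : Zs h2 K v z) {u' z' : Idx m → F}
    (hu' : Q u' = 0) (hu'z' : bf u' z' = 0) (hs : sg h2 u' z' ∈ K)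
    (hfix : act h2 (sg h2 u' z') v = v) :
    Zs h2 K v ((-2 * Q z' * bf z u') • u') := by
  have hfix' : act h2 (sg h2 u' z')⁻¹ v = v := by
    conv_lhs => rw [← hfix]
    exact act_inv_act h2 _ v
  have h1 := hz.fix hv hs hfix
  have h3 := hz.fix hv (K.inv_mem hs) hfix'
  have h4 := ((h1.add hv h3).sub hv hz).sub hv hz
  have e : act h2 (sg h2 u' z') z + act h2 (sg h2 u' z')⁻¹ z - z - z
      = (-2 * Q z' * bf z u') • u' := by
    have hn : bf u' (-z') = 0 := by rw [bf_neg_right, hu'z', neg_zero]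
    rw [sg_inv h2 u' z' hu' hu'z', sg_act h2 u' z' hu' hu'z', sg_act h2 u' (-z') hu' hn,
      Q_neg, bf_neg_right]
    module
  rwa [e] at h4

/-- every scalar is a difference of two squares -/
theorem Zs.all_of_sq {v a : Idx m → F} (hv : Q v = 0) {c0 : F} (hc0 : c0 ≠ 0)
    (h : ∀ l : F, Zs h2 K v ((l ^ 2 * c0) • a)) : ∀ μ : F, Zs h2 K v (μ • a) := by
  intro μ
  have h1 := (h ((μ / c0 + 1) / 2)).sub hv (h ((μ / c0 - 1) / 2))
  have e : (((μ / c0 + 1) / 2) ^ 2 * c0) • a - (((μ / c0 - 1) / 2) ^ 2 * c0) • a = μ • a := by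
    rw [← sub_smul]
    congr 1
    field_simp
    ring
  rwa [e] at h1

theorem sg_fix_of_perp {u z x : Idx m → F} (hQ : Q u = 0) (huz : bf u z = 0) (hxu : bf x u = 0)
    (hxz : bf x z = 0) : act h2 (sg h2 u z) x = x := by
  rw [sg_act h2 u z hQ huz, hxu, hxz]
  simp

theorem sg_zero_left (z : Idx m → F) : sg h2 (0 : Idx m → F) z = 1 := by
  apply ext_act h2
  intro v
  rw [sg_act h2 0 z Q_zero (bf_zero_left z), act_one, bf_zero_right]
  simp

variable {D : Fin t → Submodule F (Idx m → F)} {k : ℕ}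

namespace DSetup

variable (S : DSetup h2 D k K)

include S

theorem hm3 : 3 ≤ m := by have := S.hm; omega

theorem ndD (i : Fin t) : ND (D i) := S.dec.nd i

theorem fr3 (i : Fin t) : 3 ≤ finrank F (D i) := by rw [S.fr]; exact S.hk

/-- Siegel elements inside a block lie in `K` -/
theorem sg_block {i : Fin t} {u z : Idx m → F} (hu : u ∈ D i) (hz : z ∈ D i) (hQ : Q u = 0)
    (huz : bf u z = 0) : sg h2 u z ∈ K := by
  apply S.hH _ (sg_mem_Omega h2 S.hm3 u z hQ huz)
  refine ⟨1, fun j x hx => ?_⟩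
  rw [Equiv.Perm.one_apply]
  by_cases hji : j = i
  · subst hji
    rw [sg_act h2 u z hQ huz]
    exact (D j).sub_mem ((D j).add_mem hx ((D j).smul_mem _ hu)) ((D j).smul_mem _ hz)
  · rw [sg_fix_of_perp hQ huz (S.dec.orth j i hji x hx u hu) (S.dec.orth j i hji x hx z hz)]
    exact hx

theorem Zs_block {i : Fin t} {u z : Idx m → F} (hu : u ∈ D i) (hz : z ∈ D i) (hQ : Q u = 0)
    (huz : bf u z = 0) : Zs h2 K u z := ⟨huz, S.sg_block hu hz hQ huz⟩

/-- a nonzero singular vector in each block -/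
theorem exists_sing (i : Fin t) : ∃ x ∈ D i, x ≠ 0 ∧ Q x = 0 :=
  exists_singular h2 (D i) (S.fr3 i)

/-- **L1**: one mixed Siegel direction at a block-singular vector gives a whole block -/
theorem L1 {i j : Fin t} (hij : j ≠ i) {u : Idx m → F} (hu : u ∈ D i) (hQu : Q u = 0)
    {z : Idx m → F} (hz : Zs h2 K u z) (hzj : S.dec.cmp z j ≠ 0) : ∀ x ∈ D j, Zs h2 K u x := by
  have hND := S.ndD j
  have h3 := S.fr3 j
  obtain ⟨a, ha, hQa, hzja⟩ := hND.exists_singular_ne h2 h3 (S.dec.cmp_mem z j) hzj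
  have hza : bf z a ≠ 0 := by rw [S.dec.bf_cmp ha]; exact hzja
  have ha0 : a ≠ 0 := by
    rintro rfl
    exact hza (bf_zero_right z)
  obtain ⟨a', ha', hQa', haa'⟩ := hND.exists_partner ha ha0 hQa
  obtain ⟨n, hn, hna, hna', hQn⟩ := hND.exists_aniso_res h2 h3 ha ha' hQa hQa' haa'
  have hperp : ∀ p ∈ D j, bf u p = 0 := fun p hp => S.dec.orth i j (Ne.symm hij) u hu p hp
  have hfix : ∀ p q, p ∈ D j → q ∈ D j → Q p = 0 → bf p q = 0 → act h2 (sg h2 p q) u = u :=
    fun p q hp hq hQp hpq => sg_fix_of_perp hQp hpq (hperp p hp) (hperp q hq)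
  have han : bf a n = 0 := by rw [bf_comm]; exact hna
  have ha'n : bf a' n = 0 := by rw [bf_comm]; exact hna'
  -- Step 1
  have h1 : ∀ μ : F, Zs h2 K u (μ • a) := by
    have hc0 : -2 * Q n * bf z a ≠ 0 :=
      mul_ne_zero (mul_ne_zero (neg_ne_zero.mpr h2) hQn) hza
    apply Zs.all_of_sq hQu hc0
    intro l
    have hal : bf a (l • n) = 0 := by rw [bf_smul_right, han, mul_zero]
    have := hz.sq hQu hQa hal (S.sg_block ha ((D j).smul_mem l hn) hQa hal)
      (hfix a (l • n) ha ((D j).smul_mem l hn) hQa hal)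
    rw [OSub.Q_smul] at this
    have e : -2 * (l * l * Q n) * bf z a = l ^ 2 * (-2 * Q n * bf z a) := by ring
    rwa [e] at this
  -- Step 2
  have hE : ∀ b' ∈ D j, bf b' a = 0 → bf b' a' = 0 → Zs h2 K u (-(Q b' • a') - b') := by
    intro b' hb' hb'a hb'a'
    have ha'b' : bf a' b' = 0 := by rw [bf_comm]; exact hb'a'
    have h5 := (h1 1).fix hQu (S.sg_block ha' hb' hQa' ha'b') (hfix a' b' ha' hb' hQa' ha'b')
    rw [one_smul, sg_act h2 a' b' hQa' ha'b', bf_comm a b', hb'a, haa'] at h5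
    have h6 := h5.sub hQu (h1 1)
    exact h6.congr (by module)
  have hN : ∀ b' ∈ D j, bf b' a = 0 → bf b' a' = 0 → Zs h2 K u b' := by
    intro b' hb' hb'a hb'a'
    have h2inv : (2 : F)⁻¹ * 2 = 1 := inv_mul_cancel₀ h2
    set c := (2 : F)⁻¹ • b' with hc
    have hcD : c ∈ D j := (D j).smul_mem _ hb'
    have hca : bf c a = 0 := by rw [hc, bf_smul_left, hb'a, mul_zero]
    have hca' : bf c a' = 0 := by rw [hc, bf_smul_left, hb'a', mul_zero]
    have h7 := hE c hcD hca hca'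
    have h8 := hE (-c) ((D j).neg_mem hcD) (by rw [bf_neg_left, hca, neg_zero])
      (by rw [bf_neg_left, hca', neg_zero])
    have h9 := h8.sub hQu h7
    have e : -(Q (-c) • a') - -c - (-(Q c • a') - c) = b' := by
      rw [Q_neg, hc]
      have : b' = ((2 : F)⁻¹ * 2) • b' := by rw [h2inv, one_smul]
      conv_rhs => rw [this]
      module
    rwa [e] at h9
  have h1' : ∀ μ : F, Zs h2 K u (μ • a') := by
    have hc0 : -Q n ≠ 0 := neg_ne_zero.mpr hQn
    apply Zs.all_of_sq hQu hc0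
    intro l
    have hlD : l • n ∈ D j := (D j).smul_mem l hn
    have hla : bf (l • n) a = 0 := by rw [bf_smul_left, hna, mul_zero]
    have hla' : bf (l • n) a' = 0 := by rw [bf_smul_left, hna', mul_zero]
    have h7 := (hE (l • n) hlD hla hla').add hQu (hN (l • n) hlD hla hla')
    have e : -(Q (l • n) • a') - l • n + l • n = (l ^ 2 * -Q n) • a' := by
      rw [OSub.Q_smul]
      module
    rwa [e] at h7
  -- Step 3
  intro x hx
  rw [eq_res_add a a' x]
  exact ((h1 _).add hQu (h1' _)).add hQu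
    (hN _ (res_mem ha ha' hx) (bf_res_x hQa haa' x) (bf_res_y hQa' haa' x))

end DSetup

end Cfsg.Agent.Lib.Helper48.ODec
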