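import Mathlib
import Cfsg.Agent.Lib.Helper48.ODec.Zcalc

set_option autoImplicit false
set_option linter.unusedSectionVars false
set_option linter.unusedVariables false
set_option linter.unusedSimpArgs false

/-! Links between blocks, block 3-cycles and the exactness of Siegel directions. -/

namespace Cfsg.Agent.Lib.Helper48.ODec

open scoped Matrix
open Matrix Module Cfsg.Agent.Lib.Helper48.OSub
open Cfsg.Agent.Lib.Helper43 hiding Q_add Q_smul

variable {F : Type*} [Field F] [Fintype F] {m t : ℕ} {h2 : (2 : F) ≠ 0}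

local notation "Q" => Cfsg.quadFormOdd _ _

theorem Q_three {r a b : Idx m → F} (hra : bf r a = 0) (hrb : bf r b = 0) (hab : bf a b = 0) :
    Q (r + a + b) = Q r + Q a + Q b := by
  rw [OSub.Q_add, OSub.Q_add, bf_add_left, hra, hrb, hab]; ring

variable {D : Fin t → Submodule F (Idx m → F)}

/-- the component maps as linear maps -/
noncomputable def Dec.projL (hD : Dec D) (i : Fin t) : (Idx m → F) →ₗ[F] (D i) where
  toFun v := ⟨hD.cmp v i, hD.cmp_mem v i⟩
  map_add' u v := Subtype.ext (hD.cmp_add_apply u v i)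
  map_smul' a v := Subtype.ext (hD.cmp_smul_apply a v i)

theorem Dec.projL_coe (hD : Dec D) (i : Fin t) (v : Idx m → F) :
    ((hD.projL i v : D i) : Idx m → F) = hD.cmp v i := rfl

/-- `g` maps the blocks according to `σ` -/
def Maps (h2 : (2 : F) ≠ 0) (D : Fin t → Submodule F (Idx m → F)) (g : OG m h2)
    (σ : Equiv.Perm (Fin t)) : Prop := ∀ i, ∀ x ∈ D i, act h2 g x ∈ D (σ i)

theorem Maps.mul {g h : OG m h2} {σ τ : Equiv.Perm (Fin t)} (hg : Maps h2 D g σ)
    (hh : Maps h2 D h τ) : Maps h2 D (g * h) (σ * τ) := by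
  intro i x hx
  rw [act_mul, Equiv.Perm.mul_apply]
  exact hg _ _ (hh i x hx)

theorem Maps.inv (hD : Dec D) {g : OG m h2} {σ : Equiv.Perm (Fin t)} (hg : Maps h2 D g σ) :
    Maps h2 D g⁻¹ σ⁻¹ := by
  intro i x hx
  apply inv_mem_of_stab h2 hD hg
  have : σ (σ⁻¹ i) = i := by simp
  rw [this]
  exact hx

theorem Maps.stabD {g : OG m h2} {σ : Equiv.Perm (Fin t)} (hg : Maps h2 D g σ) : StabD h2 D g :=
  ⟨σ, hg⟩

variable {k : ℕ} {K : Subgroup (OG m h2)}

/-- block `i` is linked to block `j` -/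
def Lk (h2 : (2 : F) ≠ 0) (K : Subgroup (OG m h2)) (D : Fin t → Submodule F (Idx m → F))
    (i j : Fin t) : Prop :=
  ∀ u ∈ D i, Cfsg.quadFormOdd m F u = 0 → ∀ x ∈ D j, sg h2 u x ∈ K

namespace DSetup

variable (S : DSetup h2 D k K)

include S

/-- an isometry swapping two blocks -/
theorem exists_swap {i l : Fin t} (hil : i ≠ l) :
    ∃ g : OG m h2, Maps h2 D g (Equiv.swap i l) := by
  obtain ⟨e, he⟩ := S.iso i l
  have hD := S.dec
  set T : Module.End F (Idx m → F) :=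
    LinearMap.id - (D i).subtype ∘ₗ hD.projL i - (D l).subtype ∘ₗ hD.projL l
      + (D l).subtype ∘ₗ e.toLinearMap ∘ₗ hD.projL i
      + (D i).subtype ∘ₗ e.symm.toLinearMap ∘ₗ hD.projL l with hT
  have hTv : ∀ v, T v = v - hD.cmp v i - hD.cmp v l + (e (hD.projL i v) : Idx m → F)
      + (e.symm (hD.projL l v) : Idx m → F) := by
    intro v
    rw [hT]
    simp [Dec.projL_coe]
  have hiso : ∀ v, Qf m h2 (T v) = Qf m h2 v := by
    intro v
    rw [Qf_apply, Qf_apply, hTv]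
    set a := hD.cmp v i with ha
    set b := hD.cmp v l with hb
    set r := v - a - b with hr
    set a' : Idx m → F := (e (hD.projL i v) : Idx m → F) with ha'
    set b' : Idx m → F := (e.symm (hD.projL l v) : Idx m → F) with hb'
    have haD : a ∈ D i := hD.cmp_mem v i
    have hbD : b ∈ D l := hD.cmp_mem v l
    have ha'D : a' ∈ D l := (e (hD.projL i v)).2
    have hb'D : b' ∈ D i := (e.symm (hD.projL l v)).2
    have hri : ∀ d ∈ D i, bf r d = 0 := by
      intro d hd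
      rw [hr, bf_sub_left, bf_sub_left, hD.bf_cmp hd, ← ha, sub_self,
        hD.orth l i (Ne.symm hil) b hbD d hd, sub_zero]
    have hrl : ∀ d ∈ D l, bf r d = 0 := by
      intro d hd
      rw [hr, bf_sub_left, bf_sub_left, hD.bf_cmp hd, ← hb, hD.orth i l hil a haD d hd]
      ring
    have hQa' : Q a' = Q a := he (hD.projL i v)
    have hQb' : Q b' = Q b := by
      have := he (e.symm (hD.projL l v))
      rw [LinearEquiv.apply_symm_apply] at this
      exact this.symm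
    have e1 : v = r + a + b := by rw [hr]; abel
    have e2 : Q v = Q r + Q a + Q b := by
      conv_lhs => rw [e1]
      exact Q_three (hri a haD) (hrl b hbD) (hD.orth i l hil a haD b hbD)
    have e3 : Q (r + a' + b') = Q r + Q a' + Q b' :=
      Q_three (hrl a' ha'D) (hri b' hb'D) (hD.orth l i (Ne.symm hil) a' ha'D b' hb'D)
    rw [e3, e2, hQa', hQb']
  obtain ⟨g, hg⟩ := exists_ofLin (Qf m h2) (Qf_nd h2) T hiso
  refine ⟨g, ?_⟩
  intro j x hx
  have hgx : act h2 g x = T x := by unfold act; rw [hg]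
  rw [hgx, hTv]
  by_cases hji : j = i
  · subst hji
    have h1 : hD.projL j x = ⟨x, hx⟩ := Subtype.ext (hD.cmp_self hx)
    have h3 : hD.projL l x = 0 := Subtype.ext (hD.cmp_other hx (Ne.symm hil))
    rw [hD.cmp_self hx, hD.cmp_other hx (Ne.symm hil), h1, h3, map_zero, Equiv.swap_apply_left]
    have : x - x - 0 + ((e ⟨x, hx⟩ : D l) : Idx m → F) + ((0 : D j) : Idx m → F)
        = ((e ⟨x, hx⟩ : D l) : Idx m → F) := by
      rw [Submodule.coe_zero]; abel
    rw [this]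
    exact (e ⟨x, hx⟩).2
  by_cases hjl : j = l
  · subst hjl
    have h1 : hD.projL j x = ⟨x, hx⟩ := Subtype.ext (hD.cmp_self hx)
    have h3 : hD.projL i x = 0 := Subtype.ext (hD.cmp_other hx hil)
    rw [hD.cmp_self hx, hD.cmp_other hx hil, h1, h3, map_zero, Equiv.swap_apply_right]
    have : x - 0 - x + ((0 : D j) : Idx m → F) + ((e.symm ⟨x, hx⟩ : D i) : Idx m → F)
        = ((e.symm ⟨x, hx⟩ : D i) : Idx m → F) := by
      rw [Submodule.coe_zero]; abel
    rw [this]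
    exact (e.symm ⟨x, hx⟩).2
  · have h1 : hD.projL i x = 0 := Subtype.ext (hD.cmp_other hx (Ne.symm hji))
    have h3 : hD.projL l x = 0 := Subtype.ext (hD.cmp_other hx (Ne.symm hjl))
    rw [hD.cmp_other hx (Ne.symm hji), hD.cmp_other hx (Ne.symm hjl), h1, h3, map_zero, map_zero,
      Equiv.swap_apply_of_ne_of_ne hji hjl]
    have : x - 0 - 0 + ((0 : D l) : Idx m → F) + ((0 : D i) : Idx m → F) = x := by
      rw [Submodule.coe_zero, Submodule.coe_zero]; abel
    rw [this]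
    exact hx

/-- a block 3-cycle in `K` -/
theorem exists_cycle {i j l : Fin t} (hij : i ≠ j) (hil : i ≠ l) (hjl : j ≠ l) :
    ∃ c : OG m h2, c ∈ K ∧ ∃ σ : Equiv.Perm (Fin t), Maps h2 D c σ ∧ σ i = j ∧ σ j = l := by
  obtain ⟨g1, hg1⟩ := S.exists_swap hil
  obtain ⟨g2, hg2⟩ := S.exists_swap (Ne.symm hjl)
  have hc : Maps h2 D (g1 * g2 * g1⁻¹ * g2⁻¹)
      (Equiv.swap i l * Equiv.swap l j * (Equiv.swap i l)⁻¹ * (Equiv.swap l j)⁻¹) :=
    ((hg1.mul hg2).mul (hg1.inv S.dec)).mul (hg2.inv S.dec)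
  have hΩ : g1 * g2 * g1⁻¹ * g2⁻¹ ∈ Cfsg.Omega F ⇑(Qf m h2) := by
    rw [← commutatorElement_def]
    show _ ∈ commutator _
    rw [commutator_def]
    exact Subgroup.commutator_mem_commutator (Subgroup.mem_top _) (Subgroup.mem_top _)
  refine ⟨_, S.hH _ hΩ hc.stabD, _, hc, ?_, ?_⟩
  · simp only [Equiv.swap_inv, Equiv.Perm.mul_apply]
    rw [Equiv.swap_apply_of_ne_of_ne hil hij, Equiv.swap_apply_left, Equiv.swap_apply_left,
      Equiv.swap_apply_of_ne_of_ne (Ne.symm hij) hjl]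
  · simp only [Equiv.swap_inv, Equiv.Perm.mul_apply]
    rw [Equiv.swap_apply_right, Equiv.swap_apply_right,
      Equiv.swap_apply_of_ne_of_ne hil hij, Equiv.swap_apply_left]

theorem Lk_conj {c : OG m h2} (hc : c ∈ K) {σ : Equiv.Perm (Fin t)} (hσ : Maps h2 D c σ)
    {a b : Fin t} (hab : a ≠ b) (h : Lk h2 K D a b) : Lk h2 K D (σ a) (σ b) := by
  intro u' hu' hQu' x' hx'
  have hu := inv_mem_of_stab h2 S.dec hσ a hu'
  have hx := inv_mem_of_stab h2 S.dec hσ b hx'
  have hQu : Q (act h2 c⁻¹ u') = 0 := by rw [Q_act]; exact hQu'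
  have h1 := h _ hu hQu _ hx
  have h3 := sg_conj h2 c _ _ hQu (S.dec.orth a b hab _ hu _ hx)
  rw [act_act_inv, act_act_inv] at h3
  rw [← h3]
  exact K.mul_mem (K.mul_mem hc h1) (K.inv_mem hc)

theorem link_of_one {i j : Fin t} (hji : j ≠ i) {u : Idx m → F} (hu : u ∈ D i) (hu0 : u ≠ 0)
    (hQu : Q u = 0) {z : Idx m → F} (hz : Zs h2 K u z) (hzj : S.dec.cmp z j ≠ 0) :
    Lk h2 K D i j ∧ Lk h2 K D j i := by
  have A := S.L1 hji hu hQu hz hzj
  have B : Lk h2 K D j i := by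
    intro x hx hQx y hy
    by_cases hx0 : x = 0
    · rw [hx0, sg_zero_left]; exact K.one_mem
    have hux : bf u x = 0 := S.dec.orth i j (Ne.symm hji) u hu x hx
    have h1 : Zs h2 K x (-u) := by
      refine ⟨by rw [bf_neg_right, bf_comm, hux, neg_zero], ?_⟩
      rw [← sg_swap h2 u x hQu hQx hux]
      exact (A x hx).2
    have h3 : S.dec.cmp (-u) i ≠ 0 := by
      rw [S.dec.cmp_self ((D i).neg_mem hu)]
      exact neg_ne_zero.mpr hu0
    exact (S.L1 (Ne.symm hji) hx hQx h1 h3 y hy).2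
  refine ⟨?_, B⟩
  intro u' hu' hQu' y hy
  by_cases hu'0 : u' = 0
  · rw [hu'0, sg_zero_left]; exact K.one_mem
  obtain ⟨x, hx, hx0, hQx⟩ := S.exists_sing j
  have hxu' : bf x u' = 0 := S.dec.orth j i hji x hx u' hu'
  have h1 : Zs h2 K u' (-x) := by
    refine ⟨by rw [bf_neg_right, bf_comm, hxu', neg_zero], ?_⟩
    rw [← sg_swap h2 x u' hQx hQu' hxu']
    exact B x hx hQx u' hu'
  have h3 : S.dec.cmp (-x) j ≠ 0 := by
    rw [S.dec.cmp_self ((D j).neg_mem hx)]
    exact neg_ne_zero.mpr hx0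
  exact (S.L1 hji hu' hQu' h1 h3 y hy).2

theorem Lk_symm {i j : Fin t} (hij : i ≠ j) (h : Lk h2 K D i j) : Lk h2 K D j i := by
  obtain ⟨u, hu, hu0, hQu⟩ := S.exists_sing i
  obtain ⟨x, hx, hx0, hQx⟩ := S.exists_sing j
  have hz : Zs h2 K u x := ⟨S.dec.orth i j hij u hu x hx, h u hu hQu x hx⟩
  have h3 : S.dec.cmp x j ≠ 0 := by rw [S.dec.cmp_self hx]; exact hx0
  exact (S.link_of_one (Ne.symm hij) hu hu0 hQu hz h3).2

theorem Lk_trans {i j l : Fin t} (hij : i ≠ j) (hil : i ≠ l) (hjl : j ≠ l)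
    (h1 : Lk h2 K D i j) (h3 : Lk h2 K D l j) : Lk h2 K D i l := by
  obtain ⟨u, hu, hu0, hQu⟩ := S.exists_sing i
  obtain ⟨w, hw, hw0, hQw⟩ := S.exists_sing l
  obtain ⟨v, hv, hv0, hQv⟩ := S.exists_sing j
  obtain ⟨y, hy, hQy, hvy⟩ := (S.ndD j).exists_partner hv hv0 hQv
  have huw : bf u w = 0 := S.dec.orth i l hil u hu w hw
  have hc := sg_comm h2 u w v y hQu hQw huw (S.dec.orth i j hij u hu v hv)
    (S.dec.orth i j hij u hu y hy) (S.dec.orth l j (Ne.symm hjl) w hw y hy)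
    (S.dec.orth j l hjl v hv w hw) hvy
  have hK : sg h2 u w ∈ K := by
    rw [← hc]
    have a1 := h3 w hw hQw y hy
    have a2 := h1 u hu hQu v hv
    exact K.mul_mem (K.mul_mem (K.mul_mem a1 a2) (K.inv_mem a1)) (K.inv_mem a2)
  have hz : Zs h2 K u w := ⟨huw, hK⟩
  have h5 : S.dec.cmp w l ≠ 0 := by rw [S.dec.cmp_self hw]; exact hw0
  exact (S.link_of_one (Ne.symm hil) hu hu0 hQu hz h5).1

theorem Lk_step {i j : Fin t} (hij : i ≠ j) (h : Lk h2 K D i j) :
    ∀ l, l ≠ i → Lk h2 K D i l := by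
  intro l hli
  by_cases hlj : l = j
  · rw [hlj]; exact h
  obtain ⟨c, hcK, σ, hσ, hσi, hσj⟩ := S.exists_cycle hij (Ne.symm hli) (Ne.symm hlj)
  have h' := S.Lk_conj hcK hσ hij h
  rw [hσi, hσj] at h'
  have h'' := S.Lk_symm (Ne.symm hlj) h'
  exact S.Lk_trans hij (Ne.symm hli) (Ne.symm hlj) h h''

theorem all_links {i j : Fin t} (hij : i ≠ j) (h : Lk h2 K D i j) :
    ∀ a b, a ≠ b → Lk h2 K D a b := by
  intro a b hab
  by_cases hai : a = i
  · rw [hai]
    exact S.Lk_step hij h b (by rw [← hai]; exact Ne.symm hab)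
  · have h1 := S.Lk_step hij h a hai
    have h3 := S.Lk_symm (Ne.symm hai) h1
    exact S.Lk_step hai h3 b (Ne.symm hab)

theorem not_all : ¬ ∀ a b, a ≠ b → Lk h2 K D a b := by
  intro hall
  obtain ⟨g, hgΩ, hgK⟩ := S.hne
  apply hgK
  set K' : Subgroup ↥(Cfsg.Omega F ⇑(Qf m h2)) := K.comap (Cfsg.Omega F ⇑(Qf m h2)).subtype
    with hK'
  have hn : 7 ≤ Fintype.card (Idx m) := card_idx S.hm3
  have ht := S.two_le
  set i0 : Fin t := ⟨0, by omega⟩ with hi0
  obtain ⟨u, hu, hu0, hQu⟩ := S.exists_sing i0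
  obtain ⟨u', hu', hQu', huu'⟩ := (S.ndD i0).exists_partner hu hu0 hQu
  have hZ : ∀ w ∈ D i0, Q w = 0 → ∀ v, bf w v = 0 → sg h2 w v ∈ K := by
    intro w hw hQw v hwv
    have h1 : Zs h2 K w (∑ j, S.dec.cmp v j) := by
      apply Zs.sum hQw
      intro j _
      by_cases hj : j = i0
      · rw [hj]
        apply S.Zs_block hw (S.dec.cmp_mem v i0) hQw
        rw [← S.dec.bf_cmp' hw]; exact hwv
      · exact ⟨S.dec.orth i0 j (Ne.symm hj) w hw _ (S.dec.cmp_mem v j),
          hall i0 j (Ne.symm hj) w hw hQw _ (S.dec.cmp_mem v j)⟩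
    rw [S.dec.sum_cmp] at h1
    exact h1.2
  have hS : ∀ w ∈ D i0, Q w = 0 → SiegIn (Qf m h2) (Qf_nd h2) hn K' w := by
    intro w hw hQw
    refine ⟨hQw, fun v hv => ?_⟩
    rw [pb_eq] at hv
    exact hZ w hw hQw v hv
  have htop : K' = ⊤ := by
    apply eq_top_of_SiegIn_pair K' u u' (hS u hu hQu) (hS u' hu' hQu')
    rw [pb_eq, huu']
    exact one_ne_zero
  have : (⟨g, hgΩ⟩ : ↥(Cfsg.Omega F ⇑(Qf m h2))) ∈ K' := by rw [htop]; exact Subgroup.mem_top _
  exact this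

/-- **exactness**: the Siegel directions at a block-singular vector lie in the block -/
theorem exact {i : Fin t} {u : Idx m → F} (hu : u ∈ D i) (hu0 : u ≠ 0) (hQu : Q u = 0)
    {z : Idx m → F} (hz : Zs h2 K u z) : z ∈ D i := by
  by_contra hcon
  obtain ⟨j, hji, hzj⟩ := S.dec.exists_cmp_ne_of_notMem hcon
  have h1 := (S.link_of_one hji hu hu0 hQu hz hzj).1
  exact S.not_all (S.all_links (Ne.symm hji) h1)

end DSetup

end Cfsg.Agent.Lib.Helper48.ODec
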