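import Mathlib
import Cfsg.Agent.Lib.Helper48.ODec.Links

set_option autoImplicit false
set_option linter.unusedSectionVars false
set_option linter.unusedVariables false
set_option linter.unusedSimpArgs false

/-! Reflections and torus elements. -/

namespace Cfsg.Agent.Lib.Helper48.ODec

open scoped Matrix commutatorElement
open Matrix Module Cfsg.Agent.Lib.Helper48.OSub
open Cfsg.Agent.Lib.Helper43 hiding Q_add Q_smul

variable {F : Type*} [Field F] [Fintype F] {m t : ℕ} (h2 : (2 : F) ≠ 0)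

local notation "Q" => Cfsg.quadFormOdd _ _

/-- the reflection in `a` -/
noncomputable def rf (a : Idx m → F) : OG m h2 := reflO (Qf m h2) a

variable {h2}

theorem rf_act {a : Idx m → F} (ha : Q a ≠ 0) (x : Idx m → F) :
    act h2 (rf h2 a) x = x - ((Q a)⁻¹ * bf x a) • a := by
  unfold act rf
  rw [linOf_reflO (Qf m h2) a ha, reflLin_apply', pb_eq]
  rfl

theorem rf_mul_self {a : Idx m → F} (ha : Q a ≠ 0) : rf h2 a * rf h2 a = 1 :=
  reflO_mul_self (Qf m h2) a ha

theorem rf_inv {a : Idx m → F} (ha : Q a ≠ 0) : (rf h2 a)⁻¹ = rf h2 a :=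
  inv_eq_of_mul_eq_one_right (rf_mul_self ha)

theorem rf_conj (g : OG m h2) {a : Idx m → F} (ha : Q a ≠ 0) :
    g * rf h2 a * g⁻¹ = rf h2 (act h2 g a) := by
  have := reflO_conj (Qf m h2) g a ha
  unfold rf act
  rw [this]
  group

theorem rf_fix {a x : Idx m → F} (ha : Q a ≠ 0) (hxa : bf x a = 0) : act h2 (rf h2 a) x = x := by
  rw [rf_act ha, hxa, mul_zero, zero_smul, sub_zero]

theorem rf_mul_rf_mem_Omega {a b : Idx m → F} (ha : Q a ≠ 0) (hab : Q a = Q b) :
    rf h2 a * rf h2 b ∈ Cfsg.Omega F ⇑(Qf m h2) := by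
  rw [mem_Omega_iff_of, map_mul]
  unfold rf
  rw [← of_reflO_eq (Qf m h2) (Qf_nd h2) a b ha hab, ← map_mul, reflO_mul_self (Qf m h2) a ha,
    map_one]

variable {D : Fin t → Submodule F (Idx m → F)}

theorem rf_maps (hD : Dec D) {l : Fin t} {a : Idx m → F} (ha : a ∈ D l) (hQa : Q a ≠ 0) :
    Maps h2 D (rf h2 a) 1 := by
  intro j x hx
  rw [Equiv.Perm.one_apply]
  by_cases hjl : j = l
  · subst hjl
    rw [rf_act hQa]
    exact (D j).sub_mem hx ((D j).smul_mem _ ha)
  · rw [rf_fix hQa (hD.orth j l hjl x hx a ha)]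
    exact hx

theorem maps_one_mul {g h : OG m h2} (hg : Maps h2 D g 1) (hh : Maps h2 D h 1) :
    Maps h2 D (g * h) 1 := by
  have := hg.mul hh
  rwa [mul_one] at this

theorem maps_one_inv (hD : Dec D) {g : OG m h2} (hg : Maps h2 D g 1) : Maps h2 D g⁻¹ 1 := by
  have := hg.inv hD
  rwa [inv_one] at this

/-- the torus element attached to a hyperbolic pair -/
noncomputable def tor (h2 : (2 : F) ≠ 0) (x w : Idx m → F) (s : F) : OG m h2 :=
  ⁅rf h2 (x + w), rf h2 (x + s • w)⁆

theorem tor_mem_Omega (x w : Idx m → F) (s : F) : tor h2 x w s ∈ Cfsg.Omega F ⇑(Qf m h2) := by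
  unfold tor
  show _ ∈ commutator _
  rw [commutator_def]
  exact Subgroup.commutator_mem_commutator (Subgroup.mem_top _) (Subgroup.mem_top _)

section hyp

variable {x w : Idx m → F} {s : F} (hQx : Q x = 0) (hQw : Q w = 0) (hxw : bf x w = 1)
  (hs : s ≠ 0)

include hQx hQw hxw

theorem Q_hyp_a : Q (x + w) = 1 := by
  rw [OSub.Q_add, hQx, hQw, hxw]; ring

theorem Q_hyp_b (s : F) : Q (x + s • w) = s := by
  rw [OSub.Q_add, OSub.Q_smul, hQx, hQw, bf_smul_right, hxw]; ring

include hs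

theorem rr_x : act h2 (rf h2 (x + w)) (act h2 (rf h2 (x + s • w)) x) = s • x := by
  have hQa : Q (x + w) ≠ 0 := by rw [Q_hyp_a hQx hQw hxw]; exact one_ne_zero
  have hQb : Q (x + s • w) ≠ 0 := by rw [Q_hyp_b hQx hQw hxw]; exact hs
  have hwx : bf w x = 1 := by rw [bf_comm]; exact hxw
  have e1 : act h2 (rf h2 (x + s • w)) x = -(s • w) := by
    rw [rf_act hQb, Q_hyp_b hQx hQw hxw, bf_add_right, bf_smul_right, bf_self, hQx, hxw, mul_zero,
      zero_add, mul_one, inv_mul_cancel₀ hs, one_smul]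
    abel
  have e2 : act h2 (rf h2 (x + w)) w = -x := by
    rw [rf_act hQa, Q_hyp_a hQx hQw hxw, bf_add_right, bf_self, hQw, hwx, mul_zero, add_zero,
      inv_one, one_mul, one_smul]
    abel
  rw [e1, act_neg, act_smul, e2]
  module

theorem tor_act_x : act h2 (tor h2 x w s) x = (s ^ 2) • x := by
  have hQa : Q (x + w) ≠ 0 := by rw [Q_hyp_a hQx hQw hxw]; exact one_ne_zero
  have hQb : Q (x + s • w) ≠ 0 := by rw [Q_hyp_b hQx hQw hxw]; exact hs
  unfold tor
  rw [commutatorElement_def, rf_inv hQa, rf_inv hQb, act_mul, act_mul, act_mul,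
    rr_x hQx hQw hxw hs, act_smul, act_smul, rr_x hQx hQw hxw hs, smul_smul, pow_two]

theorem tor_fix {y : Idx m → F} (hyx : bf y x = 0) (hyw : bf y w = 0) :
    act h2 (tor h2 x w s) y = y := by
  have hQa : Q (x + w) ≠ 0 := by rw [Q_hyp_a hQx hQw hxw]; exact one_ne_zero
  have hQb : Q (x + s • w) ≠ 0 := by rw [Q_hyp_b hQx hQw hxw]; exact hs
  have ha : bf y (x + w) = 0 := by rw [bf_add_right, hyx, hyw, add_zero]
  have hb : bf y (x + s • w) = 0 := by rw [bf_add_right, bf_smul_right, hyx, hyw]; ring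
  unfold tor
  rw [commutatorElement_def, rf_inv hQa, rf_inv hQb, act_mul, act_mul, act_mul,
    rf_fix hQb hb, rf_fix hQa ha, rf_fix hQb hb, rf_fix hQa ha]

theorem tor_conj (g : OG m h2) :
    g * tor h2 x w s * g⁻¹ = tor h2 (act h2 g x) (act h2 g w) s := by
  have hQa : Q (x + w) ≠ 0 := by rw [Q_hyp_a hQx hQw hxw]; exact one_ne_zero
  have hQb : Q (x + s • w) ≠ 0 := by rw [Q_hyp_b hQx hQw hxw]; exact hs
  unfold tor
  rw [← act_smul, ← act_add, ← act_add, ← rf_conj g hQa, ← rf_conj g hQb, commutatorElement_def,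
    commutatorElement_def]
  group

theorem tor_maps (hD : Dec D) {l : Fin t} (hx : x ∈ D l) (hw : w ∈ D l) :
    Maps h2 D (tor h2 x w s) 1 := by
  have hQa : Q (x + w) ≠ 0 := by rw [Q_hyp_a hQx hQw hxw]; exact one_ne_zero
  have hQb : Q (x + s • w) ≠ 0 := by rw [Q_hyp_b hQx hQw hxw]; exact hs
  have ha := rf_maps (h2 := h2) hD ((D l).add_mem hx hw) hQa
  have hb := rf_maps (h2 := h2) hD ((D l).add_mem hx ((D l).smul_mem s hw)) hQb
  unfold tor
  rw [commutatorElement_def]
  exact maps_one_mul (maps_one_mul (maps_one_mul ha hb) (maps_one_inv hD ha)) (maps_one_inv hD hb)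

/-- two torus elements with the same singular point differ by a Siegel element -/
theorem tor_quot {w' : Idx m → F} (hQw' : Q w' = 0) (hxw' : bf x w' = 1) :
    tor h2 x w' s * (tor h2 x w s)⁻¹
      = sg h2 x ((1 - s ^ 2) • (w - w' + bf w' w • x)) := by
  have hxx : bf x x = 0 := by rw [bf_self, hQx, mul_zero]
  have hww : bf w w = 0 := by rw [bf_self, hQw, mul_zero]
  have hwx : bf w x = 1 := by rw [bf_comm]; exact hxw
  have hw'x : bf w' x = 1 := by rw [bf_comm]; exact hxw'
  set β := bf w' w with hβ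
  have hww' : bf w w' = β := by rw [bf_comm]
  set y := w - w' + β • x with hy
  have hxy : bf x y = 0 := by
    rw [hy, bf_add_right, bf_sub_right, bf_smul_right, hxw, hxw', hxx]; ring
  have hQy : Q y = -β := by
    rw [hy, OSub.Q_add, Q_sub, OSub.Q_smul, hQx, hQw, hQw', bf_smul_right, bf_sub_left, hwx,
      hw'x, hww']
    ring
  have hwy : bf w y = 0 := by
    rw [hy, bf_add_right, bf_sub_right, bf_smul_right, hww, hww', hwx]; ring
  have hyw : bf y w = 0 := by rw [bf_comm]; exact hwy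
  have hAx : act h2 (sg h2 x y) x = x := by
    rw [sg_act h2 x y hQx hxy, hxy, hxx]
    simp
  have hAw : act h2 (sg h2 x y) w = w' := by
    rw [sg_act h2 x y hQx hxy, hwy, hQy, hwx, hy]
    module
  have hconj : sg h2 x y * tor h2 x w s * (sg h2 x y)⁻¹ = tor h2 x w' s := by
    rw [tor_conj hQx hQw hxw hs, hAx, hAw]
  have hτx := tor_act_x (h2 := h2) hQx hQw hxw hs
  -- the action on `y`
  have hτy : act h2 (tor h2 x w s) y = y + ((s ^ 2 - 1) * bf y w) • x := by
    set r := y - bf y w • x with hr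
    have hrx : bf r x = 0 := by
      rw [hr, bf_sub_left, bf_smul_left, hxx, bf_comm y x, hxy]; ring
    have hrw : bf r w = 0 := by
      rw [hr, bf_sub_left, bf_smul_left, hxw]; ring
    have hyr : y = bf y w • x + r := by rw [hr]; abel
    conv_lhs => rw [hyr]
    rw [act_add, act_smul, hτx, tor_fix hQx hQw hxw hs hrx hrw, hr]
    module
  rw [hyw, mul_zero, zero_smul, add_zero] at hτy
  have hny : bf x (-y) = 0 := by rw [bf_neg_right, hxy, neg_zero]
  have hQτx : Q (act h2 (tor h2 x w s) x) = 0 := by rw [Q_act]; exact hQx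
  have h1 : tor h2 x w' s * (tor h2 x w s)⁻¹
      = sg h2 x y * (tor h2 x w s * sg h2 x (-y) * (tor h2 x w s)⁻¹) := by
    rw [← hconj, ← sg_inv h2 x y hQx hxy]
    group
  rw [h1, sg_conj h2 (tor h2 x w s) x (-y) hQx hny, hτx, act_neg, hτy,
    sg_smul_left h2 (s ^ 2) x (-y) hQx hny, ← sg_add h2 x y _ hQx hxy
      (by rw [bf_smul_right, hny, mul_zero])]
  congr 1
  module

end hyp

end Cfsg.Agent.Lib.Helper48.ODec
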