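import Mathlib
import Cfsg.Agent.Lib.Helper48.ODec.Refl

set_option autoImplicit false
set_option linter.unusedSectionVars false
set_option linter.unusedVariables false
set_option linter.unusedSimpArgs false

/-! Pieces `g D_i` for `g ∈ K`, and Lemma R. -/

namespace Cfsg.Agent.Lib.Helper48.ODec

open scoped Matrix commutatorElement
open Matrix Module Cfsg.Agent.Lib.Helper48.OSub
open Cfsg.Agent.Lib.Helper43 hiding Q_add Q_smul

variable {F : Type*} [Field F] [Fintype F] {m t : ℕ} {h2 : (2 : F) ≠ 0}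

local notation "Q" => Cfsg.quadFormOdd _ _

/-- the piece `g D_i` -/
noncomputable def pc (h2 : (2 : F) ≠ 0) (D : Fin t → Submodule F (Idx m → F)) (g : OG m h2)
    (i : Fin t) : Submodule F (Idx m → F) := (D i).map (linOf (Qf m h2) g)

variable {D : Fin t → Submodule F (Idx m → F)}

theorem mem_pc {g : OG m h2} {i : Fin t} {x : Idx m → F} :
    x ∈ pc h2 D g i ↔ act h2 g⁻¹ x ∈ D i := by
  unfold pc
  rw [Submodule.mem_map]
  constructor
  · rintro ⟨y, hy, rfl⟩
    have : act h2 g⁻¹ (linOf (Qf m h2) g y) = y := act_inv_act h2 g y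
    rw [this]; exact hy
  · intro h
    exact ⟨act h2 g⁻¹ x, h, act_act_inv h2 g x⟩

theorem act_mem_pc {g : OG m h2} {i : Fin t} {x : Idx m → F} (hx : x ∈ D i) :
    act h2 g x ∈ pc h2 D g i := by
  rw [mem_pc, act_inv_act]; exact hx

theorem pc_nd {g : OG m h2} {i : Fin t} (hND : ND (D i)) : ND (pc h2 D g i) := by
  intro x hx hall
  rw [mem_pc] at hx
  have : act h2 g⁻¹ x = 0 := by
    apply hND _ hx
    intro y hy
    have := hall (act h2 g y) (act_mem_pc hy)
    rw [← bf_act h2 g, act_act_inv]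
    exact this
  exact act_eq_zero h2 g⁻¹ this

theorem finrank_pc (g : OG m h2) (i : Fin t) : finrank F (pc h2 D g i) = finrank F (D i) := by
  unfold pc
  have hinj : Function.Injective (linOf (Qf m h2) g) := fun u v h => act_injective h2 g h
  exact (Submodule.equivMapOfInjective (linOf (Qf m h2) g) hinj (D i)).finrank_eq.symm

variable {k : ℕ} {K : Subgroup (OG m h2)}

namespace DSetup

variable (S : DSetup h2 D k K)

include S

theorem piece_exact {g : OG m h2} (hg : g ∈ K) {i : Fin t} {v z : Idx m → F}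
    (hv : v ∈ pc h2 D g i) (hv0 : v ≠ 0) (hQv : Q v = 0) (hz : Zs h2 K v z) :
    z ∈ pc h2 D g i := by
  rw [mem_pc]
  have h1 := hz.conj hQv (K.inv_mem hg)
  apply S.exact (mem_pc.mp hv) _ (by rw [Q_act]; exact hQv) h1
  intro h
  exact hv0 (act_eq_zero h2 g⁻¹ h)

theorem piece_Zs {g : OG m h2} (hg : g ∈ K) {i : Fin t} {v z : Idx m → F}
    (hv : v ∈ pc h2 D g i) (hz : z ∈ pc h2 D g i) (hQv : Q v = 0) (hvz : bf v z = 0) :
    Zs h2 K v z := by
  have hQ' : Q (act h2 g⁻¹ v) = 0 := by rw [Q_act]; exact hQv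
  have h1 := S.Zs_block (mem_pc.mp hv) (mem_pc.mp hz) hQ' (by rw [bf_act]; exact hvz)
  have h3 := h1.conj hQ' hg
  rwa [act_act_inv, act_act_inv] at h3

theorem pc_fr (g : OG m h2) (i : Fin t) : finrank F (pc h2 D g i) = k := by
  rw [finrank_pc, S.fr]

theorem pc_ndD (g : OG m h2) (i : Fin t) : ND (pc h2 D g i) := pc_nd (S.ndD i)

/-- torus elements of a block lie in `K` -/
theorem tor_mem {l : Fin t} {x w : Idx m → F} {s : F} (hx : x ∈ D l) (hw : w ∈ D l)
    (hQx : Q x = 0) (hQw : Q w = 0) (hxw : bf x w = 1) (hs : s ≠ 0) : tor h2 x w s ∈ K :=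
  S.hH _ (tor_mem_Omega x w s) (tor_maps hQx hQw hxw hs S.dec hx hw).stabD

/-- **Lemma R**: a piece sharing a nonzero singular vector with a block lies in that block -/
theorem lemR {g : OG m h2} (hg : g ∈ K) {i l : Fin t} {x : Idx m → F} (hx : x ∈ pc h2 D g i)
    (hxl : x ∈ D l) (hx0 : x ≠ 0) (hQx : Q x = 0) : pc h2 D g i ≤ D l := by
  have step1 : ∀ y ∈ pc h2 D g i, bf x y = 0 → y ∈ D l := fun y hy hxy =>
    S.exact hxl hx0 hQx (S.piece_Zs hg hx hy hQx hxy)
  set x0 := act h2 g⁻¹ x with hx0def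
  have hx0D : x0 ∈ D i := mem_pc.mp hx
  have hgx0 : act h2 g x0 = x := act_act_inv h2 g x
  have hx00 : x0 ≠ 0 := fun h => hx0 (act_eq_zero h2 g⁻¹ h)
  have hQx0 : Q x0 = 0 := by rw [hx0def, Q_act]; exact hQx
  obtain ⟨u1, hu1, hQu1, hxu1⟩ := (S.ndD i).exists_partner hx0D hx00 hQx0
  rcases S.hex with h5 | ⟨s, hs0, hs1⟩
  · -- two singular vectors
    obtain ⟨x2, hx2, hx20, hQx2, hx0x2, hu1x2⟩ :=
      exists_singular_perp2 h2 (D i) x0 u1 (by rw [S.fr]; exact h5)
    have hgx2 : act h2 g x2 ∈ pc h2 D g i := act_mem_pc hx2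
    have hxgx2 : bf x (act h2 g x2) = 0 := by rw [← hgx0, bf_act]; exact hx0x2
    have hgx2l : act h2 g x2 ∈ D l := step1 _ hgx2 hxgx2
    have hgx20 : act h2 g x2 ≠ 0 := fun h => hx20 (act_eq_zero h2 g h)
    have hQgx2 : Q (act h2 g x2) = 0 := by rw [Q_act]; exact hQx2
    have step2 : ∀ y ∈ pc h2 D g i, bf (act h2 g x2) y = 0 → y ∈ D l := fun y hy hxy =>
      S.exact hgx2l hgx20 hQgx2 (S.piece_Zs hg hgx2 hy hQgx2 hxy)
    intro y hy
    set y0 := act h2 g⁻¹ y with hy0def
    have hy0D : y0 ∈ D i := mem_pc.mp hy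
    have hgy0 : act h2 g y0 = y := act_act_inv h2 g y
    set c := bf x0 y0 with hc
    have e : y = act h2 g (y0 - c • u1) + act h2 g (c • u1) := by
      rw [← act_add, sub_add_cancel, hgy0]
    rw [e]
    apply (D l).add_mem
    · apply step1 _ (act_mem_pc ((D i).sub_mem hy0D ((D i).smul_mem _ hu1)))
      rw [← hgx0, bf_act, bf_sub_right, bf_smul_right, hxu1, ← hc]; ring
    · apply step2 _ (act_mem_pc ((D i).smul_mem _ hu1))
      rw [bf_act, bf_smul_right, bf_comm x2 u1, hu1x2, mul_zero]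
  · -- the torus
    obtain ⟨w, hw, hQw, hxw⟩ := (S.ndD l).exists_partner hxl hx0 hQx
    set w' := act h2 g u1 with hw'def
    have hw'pc : w' ∈ pc h2 D g i := act_mem_pc hu1
    have hQw' : Q w' = 0 := by rw [hw'def, Q_act]; exact hQu1
    have hxw' : bf x w' = 1 := by rw [← hgx0, hw'def, bf_act]; exact hxu1
    have hτ : tor h2 x w s ∈ K := S.tor_mem hxl hw hQx hQw hxw hs0
    have hτ0 : tor h2 x0 u1 s ∈ K := S.tor_mem hx0D hu1 hQx0 hQu1 hxu1 hs0
    have hτ' : tor h2 x w' s ∈ K := by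
      have := tor_conj (h2 := h2) hQx0 hQu1 hxu1 hs0 g
      rw [hgx0] at this
      rw [hw'def, ← this]
      exact K.mul_mem (K.mul_mem hg hτ0) (K.inv_mem hg)
    have hq := tor_quot (h2 := h2) hQx hQw hxw hs0 hQw' hxw'
    have hsgK : sg h2 x ((1 - s ^ 2) • (w - w' + bf w' w • x)) ∈ K := by
      rw [← hq]
      exact K.mul_mem hτ' (K.inv_mem hτ)
    have hxx : bf x x = 0 := by rw [bf_self, hQx, mul_zero]
    have hperp : bf x ((1 - s ^ 2) • (w - w' + bf w' w • x)) = 0 := by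
      rw [bf_smul_right, bf_add_right, bf_sub_right, bf_smul_right, hxw, hxw', hxx]; ring
    have hmem := S.exact hxl hx0 hQx ⟨hperp, hsgK⟩
    have hne : (1 - s ^ 2) ≠ 0 := by
      intro h
      apply hs1
      linear_combination -h
    have hmem2 : w - w' + bf w' w • x ∈ D l := by
      have := (D l).smul_mem (1 - s ^ 2)⁻¹ hmem
      rwa [smul_smul, inv_mul_cancel₀ hne, one_smul] at this
    have hw'l : w' ∈ D l := by
      have : w' = w + bf w' w • x - (w - w' + bf w' w • x) := by abel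
      rw [this]
      exact (D l).sub_mem ((D l).add_mem hw ((D l).smul_mem _ hxl)) hmem2
    intro y hy
    have e : y = (y - bf x y • w') + bf x y • w' := by abel
    rw [e]
    apply (D l).add_mem
    · apply step1 _ ((pc h2 D g i).sub_mem hy ((pc h2 D g i).smul_mem _ hw'pc))
      rw [bf_sub_right, bf_smul_right, hxw']; ring
    · exact (D l).smul_mem _ hw'l

end DSetup

end Cfsg.Agent.Lib.Helper48.ODec
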