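import Mathlib
import Cfsg.Agent.Lib.Helper48.ODec.Piece

set_option autoImplicit false
set_option linter.unusedSectionVars false
set_option linter.unusedVariables false
set_option linter.unusedSimpArgs false

/-! The case of blocks of dimension at least five. -/

namespace Cfsg.Agent.Lib.Helper48.ODec

open scoped Matrix commutatorElement
open Matrix Module Cfsg.Agent.Lib.Helper48.OSub
open Cfsg.Agent.Lib.Helper43 hiding Q_add Q_smul

variable {F : Type*} [Field F] [Fintype F] {m t : ℕ} {h2 : (2 : F) ≠ 0}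

local notation "Q" => Cfsg.quadFormOdd _ _

variable {D : Fin t → Submodule F (Idx m → F)} {k : ℕ} {K : Subgroup (OG m h2)}

namespace DSetup

variable (S : DSetup h2 D k K)

include S

theorem big (h5 : 5 ≤ k) {g : OG m h2} (hg : g ∈ K) (i : Fin t) : ∃ l, pc h2 D g i ≤ D l := by
  obtain ⟨u0, hu0, hu00, hQu0⟩ := S.exists_sing i
  set v := act h2 g u0 with hv
  have hvpc : v ∈ pc h2 D g i := act_mem_pc hu0
  have hv0 : v ≠ 0 := fun h => hu00 (act_eq_zero h2 g h)
  have hQv : Q v = 0 := by rw [hv, Q_act]; exact hQu0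
  by_cases hblock : ∃ l, v ∈ D l
  · obtain ⟨l, hl⟩ := hblock
    exact ⟨l, S.lemR hg hvpc hl hv0 hQv⟩
  exfalso
  push Not at hblock
  obtain ⟨l, hl⟩ := S.dec.exists_cmp_ne hv0
  obtain ⟨l', hl'l, hl'⟩ := S.dec.exists_cmp_ne_of_notMem (hblock l)
  -- Siegel elements of the piece at `v` preserve every block
  have key : ∀ l₀ : Fin t, ∀ z ∈ pc h2 D g i, bf v z = 0 → ∀ d ∈ D l₀,
      act h2 (sg h2 v z) d ∈ D l₀ := by
    intro l₀ z hz hvz d hd
    have hZ := S.piece_Zs hg hvpc hz hQv hvz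
    have haK : sg h2 v z ∈ K := hZ.2
    obtain ⟨x, hx, hx0, hQx, hvx, hzx⟩ := exists_singular_perp2 h2 (D l₀) (S.dec.cmp v l₀)
      (S.dec.cmp z l₀) (by rw [S.fr]; exact h5)
    have hxv : bf x v = 0 := by rw [S.dec.bf_cmp' hx, bf_comm]; exact hvx
    have hxz : bf x z = 0 := by rw [S.dec.bf_cmp' hx, bf_comm]; exact hzx
    have hax : act h2 (sg h2 v z) x = x := sg_fix_of_perp hQv hvz hxv hxz
    have hxpc : x ∈ pc h2 D (sg h2 v z) l₀ := by
      have := act_mem_pc (h2 := h2) (g := sg h2 v z) hx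
      rwa [hax] at this
    exact S.lemR haK hxpc hx hx0 hQx (act_mem_pc hd)
  -- hence `z` lies in `D l₀ + F v`
  have key2 : ∀ l₀ : Fin t, S.dec.cmp v l₀ ≠ 0 → ∀ z ∈ pc h2 D g i, bf v z = 0 →
      ∃ c : F, z - c • v ∈ D l₀ := by
    intro l₀ hl₀ z hz hvz
    obtain ⟨d, hd, hdp⟩ := (S.ndD l₀).exists_one (S.dec.cmp_mem v l₀) hl₀
    have hdv : bf d v = 1 := by rw [S.dec.bf_cmp' hd, bf_comm]; exact hdp
    have h1 := key l₀ z hz hvz d hd
    rw [sg_act h2 v z hQv hvz, hdv] at h1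
    refine ⟨bf d z - Q z * 1, ?_⟩
    have : z - (bf d z - Q z * 1) • v
        = d - (d + (bf d z - Q z * 1) • v - (1 : F) • z) := by module
    rw [this]
    exact (D l₀).sub_mem hd h1
  have hspan : ∀ z ∈ pc h2 D g i, bf v z = 0 → ∃ α β : F, z = α • v + β • S.dec.cmp v l := by
    intro z hz hvz
    obtain ⟨c, hc⟩ := key2 l hl z hz hvz
    obtain ⟨c', hc'⟩ := key2 l' hl' z hz hvz
    have h1 : (z - c • v) - (z - c' • v) = (c' - c) • v := by module
    have h3 : S.dec.cmp ((z - c • v) - (z - c' • v)) l = S.dec.cmp ((c' - c) • v) l := by rw [h1]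
    rw [S.dec.cmp_sub_apply, S.dec.cmp_self hc, S.dec.cmp_other hc' (Ne.symm hl'l), sub_zero,
      S.dec.cmp_smul_apply] at h3
    refine ⟨c, c' - c, ?_⟩
    rw [← h3]
    abel
  obtain ⟨u1, hu1, hQu1, hu0u1⟩ := (S.ndD i).exists_partner hu0 hu00 hQu0
  obtain ⟨n, hn, hnu0, hnu1, hQn⟩ :=
    (S.ndD i).exists_aniso_res h2 (S.fr3 i) hu0 hu1 hQu0 hQu1 hu0u1
  obtain ⟨x2, hx2, hx20, hQx2, hu0x2, hu1x2⟩ :=
    exists_singular_perp2 h2 (D i) u0 u1 (by rw [S.fr]; exact h5)
  obtain ⟨α, β, hgn⟩ := hspan (act h2 g n) (act_mem_pc hn)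
    (by rw [hv, bf_act, bf_comm]; exact hnu0)
  obtain ⟨α', β', hgx2⟩ := hspan (act h2 g x2) (act_mem_pc hx2) (by rw [hv, bf_act]; exact hu0x2)
  have h1 : β' • act h2 g n - β • act h2 g x2 = (β' * α - β * α') • v := by
    rw [hgn, hgx2]
    module
  have h3 : β' • n - β • x2 = (β' * α - β * α') • u0 := by
    apply act_injective h2 g
    rw [act_sub, act_smul, act_smul, act_smul, h1]
  have hγ : β' * α - β * α' = 0 := by
    have := congrArg (fun y => bf y u1) h3
    simp only [bf_sub_left, bf_smul_left, hnu1, bf_comm x2 u1, hu1x2, hu0u1] at this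
    linear_combination -this
  rw [hγ, zero_smul] at h3
  have h5' : β' • n = β • x2 := sub_eq_zero.mp h3
  have hβ' : β' = 0 := by
    have := congrArg (fun y => Cfsg.quadFormOdd m F y) h5'
    simp only [OSub.Q_smul, hQx2, mul_zero] at this
    rcases mul_eq_zero.mp this with h | h
    · rcases mul_eq_zero.mp h with h | h <;> exact h
    · exact absurd h hQn
  rw [hβ', zero_smul] at h5'
  have hβ : β = 0 := by
    rcases smul_eq_zero.mp h5'.symm with h | h
    · exact h
    · exact absurd h hx20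
  rw [hβ, zero_smul, add_zero] at hgn
  have hn' : n = α • u0 := by
    apply act_injective h2 g
    rw [hgn, act_smul]
  apply hQn
  rw [hn', OSub.Q_smul, hQu0, mul_zero]

end DSetup

end Cfsg.Agent.Lib.Helper48.ODec
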