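import Mathlib
import Cfsg.Agent.Lib.Helper48.ODec.Piece

set_option autoImplicit false
set_option linter.unusedSectionVars false
set_option linter.unusedVariables false
set_option linter.unusedSimpArgs false

/-! The case of blocks of dimension three: Claim A. -/

namespace Cfsg.Agent.Lib.Helper48.ODec

open scoped Matrix commutatorElement
open Matrix Module Cfsg.Agent.Lib.Helper48.OSub
open Cfsg.Agent.Lib.Helper43 hiding Q_add Q_smul

variable {F : Type*} [Field F] [Fintype F] {m t : ℕ} {h2 : (2 : F) ≠ 0}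

local notation "Q" => Cfsg.quadFormOdd _ _

theorem finrank_le_one_of_le_span {W : Submodule F (Idx m → F)} (p : Idx m → F)
    (h : ∀ v ∈ W, ∃ c : F, v = c • p) : finrank F W ≤ 1 := by
  classical
  have h1 : W ≤ Submodule.span F (({p} : Finset (Idx m → F)) : Set (Idx m → F)) := by
    intro v hv
    obtain ⟨c, rfl⟩ := h v hv
    exact Submodule.smul_mem _ _ (Submodule.subset_span (by simp))
  have h3 := Submodule.finrank_mono h1
  have h4 : finrank F (Submodule.span F (({p} : Finset (Idx m → F)) : Set (Idx m → F))) ≤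
      ({p} : Finset (Idx m → F)).card := finrank_span_finset_le_card _
  rw [Finset.card_singleton] at h4
  omega

variable {D : Fin t → Submodule F (Idx m → F)} {k : ℕ} {K : Subgroup (OG m h2)}

namespace DSetup

variable (S : DSetup h2 D k K)

include S

/-- the auxiliary anisotropic vector `b` of step (E1) -/
theorem exists_b (hk3 : k = 3) {s : F} (hs0 : s ≠ 0) (hs1 : s ^ 2 ≠ 1) {j : Fin t}
    {wj e : Idx m → F} (hwj : wj ∈ D j) (hQwj : Q wj ≠ 0) (he : e ∈ D j) (hewj : bf wj e = 0)
    (he0 : e ≠ 0) :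
    ∃ b ∈ D j, bf wj b = 0 ∧ Q b ≠ 0 ∧ bf e b ≠ 0 ∧ (2 : F) • e ≠ ((Q b)⁻¹ * bf e b) • b := by
  have hE : ND (perp h2 (D j) wj) := (S.ndD j).perp_nd h2 hwj hQwj
  have heE : e ∈ perp h2 (D j) wj := (mem_perp h2).mpr ⟨he, hewj⟩
  by_cases hQe : Q e = 0
  · obtain ⟨e'', he'', hQe'', hee''⟩ := hE.exists_partner heE he0 hQe
    rw [mem_perp] at he''
    have hQb : Q (e'' + e) = 1 := by
      rw [OSub.Q_add, hQe, hQe'', bf_comm e'' e, hee'']; ring
    have hbe : bf e (e'' + e) = 1 := by
      rw [bf_add_right, hee'', bf_self, hQe]; ring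
    refine ⟨e'' + e, (D j).add_mem he''.1 he, ?_, ?_, ?_, ?_⟩
    · rw [bf_add_right, he''.2, hewj, add_zero]
    · rw [hQb]; exact one_ne_zero
    · rw [hbe]; exact one_ne_zero
    · rw [hQb, hbe, inv_one, one_mul, one_smul]
      intro h
      have h' : e'' = e := by
        have : e'' = (2 : F) • e - e := by rw [h]; abel
        rw [this, two_smul]; abel
      rw [h', bf_self, hQe, mul_zero] at hee''
      exact zero_ne_one hee''
  · obtain ⟨e', he', he'0, hwe', hee'⟩ :=
      exists_ne_zero_perp2 h2 (D j) wj e (by rw [S.fr, hk3])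
    have h2Qe : (2 : F) * Q e ≠ 0 := mul_ne_zero h2 hQe
    by_cases hQe' : Q e' = 0
    · have hQb : Q (e + e') = Q e := by rw [OSub.Q_add, hQe', hee']; ring
      have hbe : bf e (e + e') = 2 * Q e := by rw [bf_add_right, bf_self, hee']; ring
      refine ⟨e + e', (D j).add_mem he he', ?_, ?_, ?_, ?_⟩
      · rw [bf_add_right, hewj, hwe', add_zero]
      · rw [hQb]; exact hQe
      · rw [hbe]; exact h2Qe
      · rw [hQb, hbe]
        have : (Q e)⁻¹ * (2 * Q e) = 2 := by field_simp
        rw [this]
        intro h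
        apply he'0
        have h' : (2 : F) • e' = 0 := by
          have : (2 : F) • e' = (2 : F) • (e + e') - (2 : F) • e := by module
          rw [this, ← h, sub_self]
        rcases smul_eq_zero.mp h' with h'' | h''
        · exact absurd h'' h2
        · exact h''
    · -- choose `t` with `Q e + t² Q e' ≠ 0`
      have ht : ∃ t : F, t ≠ 0 ∧ Q e + t ^ 2 * Q e' ≠ 0 := by
        by_cases h1 : Q e + Q e' = 0
        · refine ⟨s, hs0, ?_⟩
          intro h
          have : Q e' * (s ^ 2 - 1) = 0 := by linear_combination h - h1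
          rcases mul_eq_zero.mp this with h' | h'
          · exact hQe' h'
          · apply hs1; linear_combination h'
        · exact ⟨1, one_ne_zero, by rw [one_pow, one_mul]; exact h1⟩
      obtain ⟨t', ht0, htQ⟩ := ht
      have hQb : Q (e + t' • e') = Q e + t' ^ 2 * Q e' := by
        rw [OSub.Q_add, OSub.Q_smul, bf_smul_right, hee']; ring
      have hbe : bf e (e + t' • e') = 2 * Q e := by
        rw [bf_add_right, bf_smul_right, bf_self, hee']; ring
      refine ⟨e + t' • e', (D j).add_mem he ((D j).smul_mem _ he'), ?_, ?_, ?_, ?_⟩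
      · rw [bf_add_right, bf_smul_right, hewj, hwe']; ring
      · rw [hQb]; exact htQ
      · rw [hbe]; exact h2Qe
      · rw [hQb, hbe]
        intro h
        have h' := congrArg (fun y => bf y e') h
        simp only [bf_smul_left, bf_add_left, hee', bf_self] at h'
        have hc : (Q e + t' ^ 2 * Q e')⁻¹ * (2 * Q e) ≠ 0 := mul_ne_zero (inv_ne_zero htQ) h2Qe
        have : (Q e + t' ^ 2 * Q e')⁻¹ * (2 * Q e) * (t' * (2 * Q e')) = 0 := by
          linear_combination -h'
        rcases mul_eq_zero.mp this with h'' | h''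
        · exact hc h''
        · rcases mul_eq_zero.mp h'' with h3 | h3
          · exact ht0 h3
          · rcases mul_eq_zero.mp h3 with h4 | h4
            · exact h2 h4
            · exact hQe' h4

/-- in a non-block piece no nonzero singular vector lies in a block -/
theorem mixed {g : OG m h2} (hg : g ∈ K) {i : Fin t} (hNB : ¬ ∃ l, pc h2 D g i ≤ D l)
    {x : Idx m → F} (hx : x ∈ pc h2 D g i) (hx0 : x ≠ 0) (hQx : Q x = 0) (l : Fin t) :
    x ∉ D l := fun hl => hNB ⟨l, S.lemR hg hx hl hx0 hQx⟩

theorem no_block_sing {g : OG m h2} (hg : g ∈ K) {i : Fin t} (hNB : ¬ ∃ l, pc h2 D g i ≤ D l)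
    {c : F} {u' : Idx m → F} {j : Fin t} (hu' : u' ∈ D j) (hu'0 : u' ≠ 0) (hQu' : Q u' = 0)
    (h : c • u' ∈ pc h2 D g i) : c = 0 := by
  by_contra hc
  have h1 : u' ∈ pc h2 D g i := by
    have := (pc h2 D g i).smul_mem c⁻¹ h
    rwa [smul_smul, inv_mul_cancel₀ hc, one_smul] at this
  exact S.mixed hg hNB h1 hu'0 hQu' j hu'

end DSetup

end Cfsg.Agent.Lib.Helper48.ODec
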