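import Mathlib
import Cfsg.Agent.Lib.Helper48.ODec.ThreeA

set_option autoImplicit false
set_option linter.unusedSectionVars false
set_option linter.unusedVariables false
set_option linter.unusedSimpArgs false

/-! The case of blocks of dimension three: Claim A. -/

namespace Cfsg.Agent.Lib.Helper48.ODec

open scoped Matrix commutatorElement
open Matrix Module Cfsg.Agent.Lib.Helper48.OSub
open Cfsg.Agent.Lib.Helper43 hiding Q_add Q_smul

variable {F : Type*} [Field F] [Fintype F] {m t : ℕ} {h2 : (2 : F) ≠ 0}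

local notation "Q" => Cfsg.quadFormOdd _ _

variable {D : Fin t → Submodule F (Idx m → F)} {k : ℕ} {K : Subgroup (OG m h2)}

namespace DSetup

variable (S : DSetup h2 D k K)

include S

theorem claimA1 {g : OG m h2} (hg : g ∈ K) {i : Fin t} (hNB : ¬ ∃ l, pc h2 D g i ≤ D l)
    {w : Idx m → F} (hw : w ∈ pc h2 D g i) (hw0 : w ≠ 0) (hQw : Q w = 0) {z : Idx m → F}
    (hz : z ∈ pc h2 D g i) (hwz : bf w z = 0) (j : Fin t) (h0 : S.dec.cmp w j = 0) :
    S.dec.cmp z j = 0 := by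
  by_contra hzj
  have hZ := S.piece_Zs hg hw hz hQw hwz
  obtain ⟨a, ha, hQa, hzja⟩ := (S.ndD j).exists_singular_ne h2 (S.fr3 j) (S.dec.cmp_mem z j) hzj
  have hza : bf z a ≠ 0 := by rw [S.dec.bf_cmp ha]; exact hzja
  have ha0 : a ≠ 0 := by
    rintro rfl
    exact hza (bf_zero_right z)
  obtain ⟨a', ha', hQa', haa'⟩ := (S.ndD j).exists_partner ha ha0 hQa
  obtain ⟨n, hn, hna, hna', hQn⟩ :=
    (S.ndD j).exists_aniso_res h2 (S.fr3 j) ha ha' hQa hQa' haa'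
  have han : bf a n = 0 := by rw [bf_comm]; exact hna
  have hwd : ∀ d ∈ D j, bf w d = 0 := by
    intro d hd
    rw [S.dec.bf_cmp hd, h0, bf_zero_left]
  have hfix : act h2 (sg h2 a n) w = w := sg_fix_of_perp hQa han (hwd a ha) (hwd n hn)
  have h1 := hZ.sq hQw hQa han (S.sg_block ha hn hQa han) hfix
  have h3 := S.piece_exact hg hw hw0 hQw h1
  have h4 := S.no_block_sing hg hNB ha ha0 hQa h3
  rcases mul_eq_zero.mp h4 with h5 | h5
  · rcases mul_eq_zero.mp h5 with h6 | h6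
    · exact h2 (neg_eq_zero.mp h6)
    · exact hQn h6
  · exact hza h5

theorem claimA2 {g : OG m h2} (hg : g ∈ K) {i : Fin t} (hNB : ¬ ∃ l, pc h2 D g i ≤ D l)
    {w : Idx m → F} (hw : w ∈ pc h2 D g i) (hw0 : w ≠ 0) (hQw : Q w = 0) {z : Idx m → F}
    (hz : z ∈ pc h2 D g i) (hwz : bf w z = 0) (j : Fin t) (hwj0 : S.dec.cmp w j ≠ 0)
    (hQwj : Q (S.dec.cmp w j) = 0) : ∃ c : F, S.dec.cmp z j = c • S.dec.cmp w j := by
  obtain ⟨wj, hwjdef⟩ : ∃ wj, wj = S.dec.cmp w j := ⟨_, rfl⟩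
  rw [← hwjdef] at hwj0 hQwj ⊢
  have hwjD : wj ∈ D j := by rw [hwjdef]; exact S.dec.cmp_mem w j
  have hZ := S.piece_Zs hg hw hz hQw hwz
  obtain ⟨wj', hwj', hQwj', hww'⟩ := (S.ndD j).exists_partner hwjD hwj0 hQwj
  obtain ⟨n, hn, hnw, hnw', hQn⟩ :=
    (S.ndD j).exists_aniso_res h2 (S.fr3 j) hwjD hwj' hQwj hQwj' hww'
  have hwd : ∀ d ∈ D j, bf w d = bf wj d := fun d hd => by rw [hwjdef]; exact S.dec.bf_cmp hd
  have hwwj : bf w wj = 0 := by rw [hwd wj hwjD, bf_self, hQwj, mul_zero]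
  have hfix : ∀ z'' ∈ D j, bf wj z'' = 0 → act h2 (sg h2 wj z'') w = w := fun z'' hz'' h =>
    sg_fix_of_perp hQwj h hwwj (by rw [hwd z'' hz'', h])
  have hwn : bf wj n = 0 := by rw [bf_comm]; exact hnw
  have hi : bf z wj = 0 := by
    have h1 := hZ.sq hQw hQwj hwn (S.sg_block hwjD hn hQwj hwn) (hfix n hn hwn)
    have h3 := S.piece_exact hg hw hw0 hQw h1
    have h4 := S.no_block_sing hg hNB hwjD hwj0 hQwj h3
    rcases mul_eq_zero.mp h4 with h5 | h5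
    · rcases mul_eq_zero.mp h5 with h6 | h6
      · exact absurd (neg_eq_zero.mp h6) h2
      · exact absurd h6 hQn
    · exact h5
  have hii : ∀ z'' ∈ D j, bf wj z'' = 0 → bf z z'' = 0 := by
    intro z'' hz'' h
    have h1 := hZ.fix hQw (S.sg_block hwjD hz'' hQwj h) (hfix z'' hz'' h)
    rw [sg_act h2 wj z'' hQwj h, hi] at h1
    have h3 := h1.sub hQw hZ
    have h4 : Zs h2 K w (bf z z'' • wj) := h3.congr (by module)
    have h5 := S.piece_exact hg hw hw0 hQw h4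
    exact S.no_block_sing hg hNB hwjD hwj0 hQwj h5
  refine ⟨bf (S.dec.cmp z j) wj', ?_⟩
  have : S.dec.cmp z j - bf (S.dec.cmp z j) wj' • wj = 0 := by
    apply S.dec.nd j _ ((D j).sub_mem (S.dec.cmp_mem z j) ((D j).smul_mem _ hwjD))
    intro y hy
    have hz''D : y - bf wj y • wj' ∈ D j := (D j).sub_mem hy ((D j).smul_mem _ hwj')
    have h1 : bf wj (y - bf wj y • wj') = 0 := by
      rw [bf_sub_right, bf_smul_right, hww']; ring
    have h3 := hii _ hz''D h1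
    rw [S.dec.bf_cmp hz''D, bf_sub_right, bf_smul_right] at h3
    rw [bf_sub_left, bf_smul_left]
    linear_combination h3
  exact sub_eq_zero.mp this

theorem claimA3 (hk3 : k = 3) {s : F} (hs0 : s ≠ 0) (hs1 : s ^ 2 ≠ 1) {g : OG m h2} (hg : g ∈ K)
    {i : Fin t} (hNB : ¬ ∃ l, pc h2 D g i ≤ D l)
    {w : Idx m → F} (hw : w ∈ pc h2 D g i) (hw0 : w ≠ 0) (hQw : Q w = 0) {z : Idx m → F}
    (hz : z ∈ pc h2 D g i) (hwz : bf w z = 0) (j : Fin t)
    (hQwj : Q (S.dec.cmp w j) ≠ 0) : ∃ c : F, S.dec.cmp z j = c • S.dec.cmp w j := by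
  obtain ⟨wj, hwjdef⟩ : ∃ wj, wj = S.dec.cmp w j := ⟨_, rfl⟩
  obtain ⟨zj, hzjdef⟩ : ∃ zj, zj = S.dec.cmp z j := ⟨_, rfl⟩
  rw [← hwjdef] at hQwj ⊢
  rw [← hzjdef]
  have hwjD : wj ∈ D j := by rw [hwjdef]; exact S.dec.cmp_mem w j
  have hzjD : zj ∈ D j := by rw [hzjdef]; exact S.dec.cmp_mem z j
  have hZ := S.piece_Zs hg hw hz hQw hwz
  have h2Q : (2 : F) * Q wj ≠ 0 := mul_ne_zero h2 hQwj
  -- another anisotropic component
  obtain ⟨j', hj'j, hQwj'⟩ : ∃ j', j' ≠ j ∧ Q (S.dec.cmp w j') ≠ 0 := by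
    by_contra hcon
    push Not at hcon
    have h1 := S.dec.Q_eq_sum w
    rw [hQw, Finset.sum_eq_single j (fun l _ hl => hcon l hl)
      (fun h => absurd (Finset.mem_univ j) h), ← hwjdef] at h1
    exact hQwj h1.symm
  obtain ⟨wj', hwj'def⟩ : ∃ wj', wj' = S.dec.cmp w j' := ⟨_, rfl⟩
  rw [← hwj'def] at hQwj'
  have hwj'D : wj' ∈ D j' := by rw [hwj'def]; exact S.dec.cmp_mem w j'
  obtain ⟨α, hα⟩ : ∃ α, α = (2 * Q wj)⁻¹ * bf wj zj := ⟨_, rfl⟩
  obtain ⟨e, he⟩ : ∃ e, e = zj - α • wj := ⟨_, rfl⟩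
  have heD : e ∈ D j := by rw [he]; exact (D j).sub_mem hzjD ((D j).smul_mem _ hwjD)
  have hwe : bf wj e = 0 := by
    rw [he, bf_sub_right, bf_smul_right, bf_self, hα]
    field_simp
    ring
  have hzj_eq : zj = e + α • wj := by rw [he]; abel
  by_cases he0 : e = 0
  · refine ⟨α, ?_⟩
    rw [hzj_eq, he0, zero_add]
  exfalso
  obtain ⟨b, hb, hwb, hQb, heb, hne⟩ := S.exists_b hk3 hs0 hs1 hwjD hQwj heD hwe he0
  -- (E2)
  have hE' : ND (perp h2 (D j') wj') := (S.ndD j').perp_nd h2 hwj'D hQwj'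
  have hfrE' : 2 ≤ finrank F (perp h2 (D j') wj') := by
    have := finrank_perp h2 (D j') wj'
    rw [S.fr, hk3] at this
    omega
  obtain ⟨b', hb', hQb'⟩ := hE'.exists_norm_eq h2 hfrE' hQb
  rw [mem_perp] at hb'
  obtain ⟨hb'D, hwb'⟩ := hb'
  have hQb'0 : Q b' ≠ 0 := by rw [hQb']; exact hQb
  -- the bireflection
  obtain ⟨h, hh⟩ : ∃ h, h = rf h2 b * rf h2 b' := ⟨_, rfl⟩
  have hhK : h ∈ K := by
    rw [hh]
    exact S.hH _ (rf_mul_rf_mem_Omega hQb hQb'.symm)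
      (maps_one_mul (rf_maps S.dec hb hQb) (rf_maps S.dec hb'D hQb'0)).stabD
  have hwb0 : bf w b = 0 := by rw [S.dec.bf_cmp hb, ← hwjdef]; exact hwb
  have hwb'0 : bf w b' = 0 := by rw [S.dec.bf_cmp hb'D, ← hwj'def]; exact hwb'
  have hfix : act h2 h w = w := by rw [hh, act_mul, rf_fix hQb'0 hwb'0, rf_fix hQb hwb0]
  have h1 := hZ.fix hQw hhK hfix
  have hhz : act h2 h z ∈ pc h2 D g i := S.piece_exact hg hw hw0 hQw h1
  have hb'b : bf b' b = 0 := S.dec.orth j' j hj'j b' hb'D b hb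
  have hzb : bf z b = bf e b := by
    rw [S.dec.bf_cmp hb, ← hzjdef, hzj_eq, bf_add_left, bf_smul_left, hwb]; ring
  obtain ⟨c₂, hc₂⟩ : ∃ c₂, c₂ = (Q b)⁻¹ * bf z b := ⟨_, rfl⟩
  obtain ⟨c₁, hc₁⟩ : ∃ c₁, c₁ = (Q b')⁻¹ * bf z b' := ⟨_, rfl⟩
  have hact : act h2 h z = z - c₂ • b - c₁ • b' := by
    rw [hh, act_mul, rf_act hQb'0, act_sub, act_smul, rf_act hQb z, rf_fix hQb hb'b, ← hc₂, ← hc₁]
  -- a basis of the piece
  have hU3 : finrank F (pc h2 D g i) = 3 := by rw [S.pc_fr, hk3]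
  obtain ⟨w1, hw1, hQw1, hww1⟩ := (S.pc_ndD g i).exists_partner hw hw0 hQw
  obtain ⟨nU, hnU, hnw, hnw1, hQnU⟩ :=
    (S.pc_ndD g i).exists_aniso_res h2 (by rw [hU3]) hw hw1 hQw hQw1 hww1
  have hsp := span3 h2 hU3 hw hw1 hnU hQw hQw1 hww1 hnw hnw1 hQnU
  have hz_eq := hsp z hz
  have hhz_eq := hsp (act h2 h z) hhz
  rw [bf_comm z w, hwz, zero_smul, add_zero] at hz_eq
  rw [bf_comm (act h2 h z) w, h1.1, zero_smul, add_zero] at hhz_eq
  obtain ⟨a, ha⟩ : ∃ a, a = bf z w1 := ⟨_, rfl⟩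
  obtain ⟨γ, hγdef⟩ : ∃ γ, γ = (2 * Q nU)⁻¹ * bf z nU := ⟨_, rfl⟩
  obtain ⟨a', ha'⟩ : ∃ a', a' = bf (act h2 h z) w1 := ⟨_, rfl⟩
  obtain ⟨γ', hγ'def⟩ : ∃ γ', γ' = (2 * Q nU)⁻¹ * bf (act h2 h z) nU := ⟨_, rfl⟩
  rw [← ha, ← hγdef] at hz_eq
  rw [← ha', ← hγ'def] at hhz_eq
  have hwnU : bf w nU = 0 := by rw [bf_comm]; exact hnw
  have hQlin : ∀ p q : F, Q (p • w + q • nU) = q ^ 2 * Q nU := by
    intro p q
    rw [OSub.Q_add, OSub.Q_smul, OSub.Q_smul, hQw, bf_smul_left, bf_smul_right, hwnU]; ring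
  have hQz : Q z = γ ^ 2 * Q nU := by
    conv_lhs => rw [hz_eq]
    exact hQlin a γ
  have hQhz : Q (act h2 h z) = γ' ^ 2 * Q nU := by
    conv_lhs => rw [hhz_eq]
    exact hQlin a' γ'
  have hγ : (γ' - γ) * (γ' + γ) = 0 := by
    have h5 : Q (act h2 h z) = Q z := Q_act h2 h z
    rw [hQz, hQhz] at h5
    have : (γ' ^ 2 - γ ^ 2) * Q nU = 0 := by linear_combination h5
    rcases mul_eq_zero.mp this with h6 | h6
    · linear_combination h6
    · exact absurd h6 hQnU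
  have hbb : bf b b = 2 * Q b := bf_self b
  have hbwj : bf b wj = 0 := by rw [bf_comm]; exact hwb
  have hewj : bf e wj = 0 := by rw [bf_comm]; exact hwe
  rcases mul_eq_zero.mp hγ with h6 | h6
  · -- γ' = γ
    have hγγ : γ' = γ := sub_eq_zero.mp h6
    have h7 : act h2 h z - z = (a' - a) • w := by
      conv_lhs => rw [hhz_eq, hz_eq, hγγ]
      module
    rw [hact] at h7
    have h9 : z - c₂ • b - c₁ • b' - z = -(c₂ • b) - c₁ • b' := by abel
    rw [h9] at h7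
    have h8 : S.dec.cmp (-(c₂ • b) - c₁ • b') j = S.dec.cmp ((a' - a) • w) j := by rw [h7]
    rw [S.dec.cmp_sub_apply, S.dec.cmp_neg_apply, S.dec.cmp_smul_apply, S.dec.cmp_smul_apply,
      S.dec.cmp_smul_apply, S.dec.cmp_self hb, S.dec.cmp_other hb'D (Ne.symm hj'j),
      ← hwjdef] at h8
    have h10 : bf (-(c₂ • b) - c₁ • (0 : Idx m → F)) b = bf ((a' - a) • wj) b := by rw [h8]
    rw [bf_sub_left, bf_neg_left, bf_smul_left, bf_smul_left, bf_smul_left, bf_zero_left, hbb,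
      hwb] at h10
    have hc₂0 : c₂ = 0 := by
      have : c₂ * (2 * Q b) = 0 := by linear_combination -h10
      rcases mul_eq_zero.mp this with h | h
      · exact h
      · exact absurd h (mul_ne_zero h2 hQb)
    apply heb
    rw [← hzb]
    rw [hc₂] at hc₂0
    rcases mul_eq_zero.mp hc₂0 with h | h
    · exact absurd h (inv_ne_zero hQb)
    · exact h
  · -- γ' = -γ
    have hγγ : γ' = -γ := by linear_combination h6
    have h7 : act h2 h z + z = (a' + a) • w := by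
      conv_lhs => rw [hhz_eq, hz_eq, hγγ]
      module
    rw [hact] at h7
    have h9 : z - c₂ • b - c₁ • b' + z = (2 : F) • z - c₂ • b - c₁ • b' := by module
    rw [h9] at h7
    have h8 : S.dec.cmp ((2 : F) • z - c₂ • b - c₁ • b') j = S.dec.cmp ((a' + a) • w) j := by
      rw [h7]
    rw [S.dec.cmp_sub_apply, S.dec.cmp_sub_apply, S.dec.cmp_smul_apply, S.dec.cmp_smul_apply,
      S.dec.cmp_smul_apply, S.dec.cmp_smul_apply, S.dec.cmp_self hb,
      S.dec.cmp_other hb'D (Ne.symm hj'j), ← hwjdef, ← hzjdef, hzj_eq] at h8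
    have h10 : bf ((2 : F) • (e + α • wj) - c₂ • b - c₁ • (0 : Idx m → F)) wj
        = bf ((a' + a) • wj) wj := by rw [h8]
    rw [bf_sub_left, bf_sub_left, bf_smul_left, bf_smul_left, bf_smul_left, bf_smul_left,
      bf_add_left, bf_smul_left, bf_zero_left, hewj, hbwj, bf_self] at h10
    have haa : a' + a = 2 * α := by
      have : (a' + a - 2 * α) * (2 * Q wj) = 0 := by linear_combination -h10
      rcases mul_eq_zero.mp this with h | h
      · linear_combination h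
      · exact absurd h h2Q
    apply hne
    rw [← hzb, ← hc₂]
    rw [haa] at h8
    have : (2 : F) • e = ((2 : F) • (e + α • wj) - c₂ • b - c₁ • (0 : Idx m → F))
        - (2 * α) • wj + c₂ • b := by module
    rw [this, h8]
    module

/-- **Claim A** -/
theorem claimA (hk3 : k = 3) {s : F} (hs0 : s ≠ 0) (hs1 : s ^ 2 ≠ 1) {g : OG m h2} (hg : g ∈ K)
    {i : Fin t} (hNB : ¬ ∃ l, pc h2 D g i ≤ D l)
    {w : Idx m → F} (hw : w ∈ pc h2 D g i) (hw0 : w ≠ 0) (hQw : Q w = 0) {z : Idx m → F}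
    (hz : z ∈ pc h2 D g i) (hwz : bf w z = 0) (j : Fin t) :
    ∃ c : F, S.dec.cmp z j = c • S.dec.cmp w j := by
  by_cases h0 : S.dec.cmp w j = 0
  · exact ⟨0, by rw [S.claimA1 hg hNB hw hw0 hQw hz hwz j h0, zero_smul]⟩
  by_cases hQ : Q (S.dec.cmp w j) = 0
  · exact S.claimA2 hg hNB hw hw0 hQw hz hwz j h0 hQ
  · exact S.claimA3 hk3 hs0 hs1 hg hNB hw hw0 hQw hz hwz j hQ

end DSetup

end Cfsg.Agent.Lib.Helper48.ODec
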