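import Mathlib
import Cfsg.Agent.Lib.Helper48.ODec.ThreeB

set_option autoImplicit false
set_option linter.unusedSectionVars false
set_option linter.unusedVariables false
set_option linter.unusedSimpArgs false

/-! The case of blocks of dimension three: thin pieces and the conclusion. -/

namespace Cfsg.Agent.Lib.Helper48.ODec

open scoped Matrix commutatorElement
open Matrix Module Cfsg.Agent.Lib.Helper48.OSub
open Cfsg.Agent.Lib.Helper43 hiding Q_add Q_smul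

variable {F : Type*} [Field F] [Fintype F] {m t : ℕ} {h2 : (2 : F) ≠ 0}

local notation "Q" => Cfsg.quadFormOdd _ _

variable {D : Fin t → Submodule F (Idx m → F)} {k : ℕ} {K : Subgroup (OG m h2)}

namespace DSetup

variable (S : DSetup h2 D k K)

include S

/-- a non-block piece projects onto at most a line in every block -/
theorem thin (hk3 : k = 3) {s : F} (hs0 : s ≠ 0) (hs1 : s ^ 2 ≠ 1) {g : OG m h2} (hg : g ∈ K)
    {i : Fin t} (hNB : ¬ ∃ l, pc h2 D g i ≤ D l) (j : Fin t) :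
    ∃ p : Idx m → F, ∀ y ∈ pc h2 D g i, ∃ c : F, S.dec.cmp y j = c • p := by
  have hU3 : finrank F (pc h2 D g i) = 3 := by rw [S.pc_fr, hk3]
  obtain ⟨w0, hw0, hw00, hQw0⟩ := exists_singular h2 (pc h2 D g i) (by rw [hU3])
  obtain ⟨w1, hw1, hQw1, hw01⟩ := (S.pc_ndD g i).exists_partner hw0 hw00 hQw0
  obtain ⟨n, hn, hnw0, hnw1, hQn⟩ :=
    (S.pc_ndD g i).exists_aniso_res h2 (by rw [hU3]) hw0 hw1 hQw0 hQw1 hw01
  have hsp := span3 h2 hU3 hw0 hw1 hn hQw0 hQw1 hw01 hnw0 hnw1 hQn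
  have hw10 : w1 ≠ 0 := by
    rintro rfl
    rw [bf_zero_right] at hw01
    exact zero_ne_one hw01
  have hw0n : bf w0 n = 0 := by rw [bf_comm]; exact hnw0
  have hw1n : bf w1 n = 0 := by rw [bf_comm]; exact hnw1
  have hw10' : bf w1 w0 = 1 := by rw [bf_comm]; exact hw01
  suffices h : ∃ p : Idx m → F, (∃ c : F, S.dec.cmp w0 j = c • p) ∧
      (∃ c : F, S.dec.cmp w1 j = c • p) ∧ (∃ c : F, S.dec.cmp n j = c • p) by
    obtain ⟨p, ⟨c0, h0⟩, ⟨c1, h1⟩, ⟨c2, h2'⟩⟩ := h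
    refine ⟨p, fun y hy => ?_⟩
    have hy_eq := hsp y hy
    refine ⟨bf y w1 * c0 + bf y w0 * c1 + ((2 * Q n)⁻¹ * bf y n) * c2, ?_⟩
    conv_lhs => rw [hy_eq]
    rw [S.dec.cmp_add_apply, S.dec.cmp_add_apply, S.dec.cmp_smul_apply, S.dec.cmp_smul_apply,
      S.dec.cmp_smul_apply, h0, h1, h2']
    module
  obtain ⟨a₀, hA0⟩ := S.claimA hk3 hs0 hs1 hg hNB hw0 hw00 hQw0 hn hw0n j
  obtain ⟨a₁, hA1⟩ := S.claimA hk3 hs0 hs1 hg hNB hw1 hw10 hQw1 hn hw1n j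
  by_cases hnj : S.dec.cmp n j = 0
  swap
  · have ha₀ : a₀ ≠ 0 := by
      rintro rfl
      rw [zero_smul] at hA0
      exact hnj hA0
    have ha₁ : a₁ ≠ 0 := by
      rintro rfl
      rw [zero_smul] at hA1
      exact hnj hA1
    refine ⟨S.dec.cmp n j, ⟨a₀⁻¹, ?_⟩, ⟨a₁⁻¹, ?_⟩, ⟨1, (one_smul _ _).symm⟩⟩
    · rw [hA0, smul_smul, inv_mul_cancel₀ ha₀, one_smul]
    · rw [hA1, smul_smul, inv_mul_cancel₀ ha₁, one_smul]
  -- `cmp n j = 0`: use a third singular vector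
  have hw' : w1 - n - Q n • w0 ∈ pc h2 D g i :=
    (pc h2 D g i).sub_mem ((pc h2 D g i).sub_mem hw1 hn) ((pc h2 D g i).smul_mem _ hw0)
  have hQw' : Q (w1 - n - Q n • w0) = 0 := by
    rw [Q_sub, Q_sub, OSub.Q_smul, hQw1, hQw0, bf_smul_right, bf_sub_left, hw1n, hw10', hnw0]
    ring
  have hw'0 : w1 - n - Q n • w0 ≠ 0 := by
    intro h
    have h1 : bf w0 (w1 - n - Q n • w0) = 1 := by
      rw [bf_sub_right, bf_sub_right, bf_smul_right, hw01, hw0n, bf_self, hQw0]; ring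
    rw [h, bf_zero_right] at h1
    exact zero_ne_one h1
  have hz : n + (2 * Q n) • w0 ∈ pc h2 D g i :=
    (pc h2 D g i).add_mem hn ((pc h2 D g i).smul_mem _ hw0)
  have hw'z : bf (w1 - n - Q n • w0) (n + (2 * Q n) • w0) = 0 := by
    rw [bf_add_right, bf_smul_right, bf_sub_left, bf_sub_left, bf_sub_left, bf_sub_left,
      bf_smul_left, bf_smul_left, hw1n, hw10', hnw0, hw0n, bf_self n, bf_self w0, hQw0]
    ring
  obtain ⟨a₂, hA2⟩ := S.claimA hk3 hs0 hs1 hg hNB hw' hw'0 hQw' hz hw'z j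
  rw [S.dec.cmp_add_apply, S.dec.cmp_smul_apply, S.dec.cmp_sub_apply, S.dec.cmp_sub_apply,
    S.dec.cmp_smul_apply, hnj, zero_add, sub_zero] at hA2
  by_cases h00 : S.dec.cmp w0 j = 0
  · exact ⟨S.dec.cmp w1 j, ⟨0, by rw [h00, zero_smul]⟩, ⟨1, (one_smul _ _).symm⟩,
      ⟨0, by rw [hnj, zero_smul]⟩⟩
  · have ha₂ : a₂ ≠ 0 := by
      rintro rfl
      rw [zero_smul] at hA2
      rcases smul_eq_zero.mp hA2 with h | h
      · exact mul_ne_zero h2 hQn h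
      · exact h00 h
    refine ⟨S.dec.cmp w0 j, ⟨1, (one_smul _ _).symm⟩, ⟨a₂⁻¹ * (2 * Q n) + Q n, ?_⟩,
      ⟨0, by rw [hnj, zero_smul]⟩⟩
    have h1 : a₂ • S.dec.cmp w1 j = (2 * Q n + a₂ * Q n) • S.dec.cmp w0 j := by
      have : a₂ • S.dec.cmp w1 j
          = a₂ • (S.dec.cmp w1 j - Q n • S.dec.cmp w0 j) + (a₂ * Q n) • S.dec.cmp w0 j := by
        module
      rw [this, ← hA2]
      module
    have h3 : S.dec.cmp w1 j = a₂⁻¹ • (a₂ • S.dec.cmp w1 j) := by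
      rw [smul_smul, inv_mul_cancel₀ ha₂, one_smul]
    rw [h3, h1, smul_smul]
    congr 1
    field_simp

/-- the case `k = 3` -/
theorem three (hk3 : k = 3) {s : F} (hs0 : s ≠ 0) (hs1 : s ^ 2 ≠ 1) {g : OG m h2} (hg : g ∈ K)
    (i : Fin t) : ∃ l, pc h2 D g i ≤ D l := by
  by_contra hNB
  have hU3 : finrank F (pc h2 D g i) = 3 := by rw [S.pc_fr, hk3]
  obtain ⟨w, hw, hw0, hQw⟩ := exists_singular h2 (pc h2 D g i) (by rw [hU3])
  obtain ⟨w1, hw1, hQw1, hww1⟩ := (S.pc_ndD g i).exists_partner hw hw0 hQw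
  obtain ⟨n, hn, hnw, hnw1, hQn⟩ :=
    (S.pc_ndD g i).exists_aniso_res h2 (by rw [hU3]) hw hw1 hQw hQw1 hww1
  have hwn : bf w n = 0 := by rw [bf_comm]; exact hnw
  have hmix := S.mixed hg hNB hw hw0 hQw
  obtain ⟨j, hj⟩ := S.dec.exists_cmp_ne hw0
  obtain ⟨j', hj'j, hj'⟩ := S.dec.exists_cmp_ne_of_notMem (hmix j)
  have hZ := S.piece_Zs hg hw hn hQw hwn
  have hsK : sg h2 w n ∈ K := hZ.2
  have claim : ∀ j₀, S.dec.cmp w j₀ ≠ 0 → ∃ c : F, c • w + n ∈ D j₀ := by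
    intro j₀ hj₀
    obtain ⟨a, hA⟩ := S.claimA hk3 hs0 hs1 hg hNB hw hw0 hQw hn hwn j₀
    have hfixE : ∀ d ∈ D j₀, bf (S.dec.cmp w j₀) d = 0 → act h2 (sg h2 w n) d = d := by
      intro d hd hwd
      apply sg_fix_of_perp hQw hwn
      · rw [S.dec.bf_cmp' hd, bf_comm]; exact hwd
      · rw [S.dec.bf_cmp' hd, hA, bf_smul_right, bf_comm d, hwd, mul_zero]
    have hmemE : ∀ d ∈ D j₀, bf (S.dec.cmp w j₀) d = 0 → d ∈ pc h2 D (sg h2 w n) j₀ := by
      intro d hd hwd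
      have := act_mem_pc (h2 := h2) (g := sg h2 w n) hd
      rwa [hfixE d hd hwd] at this
    have hPle : pc h2 D (sg h2 w n) j₀ ≤ D j₀ := by
      by_cases hP : ∃ l, pc h2 D (sg h2 w n) j₀ ≤ D l
      · obtain ⟨l, hl⟩ := hP
        obtain ⟨d, hd, hd0, hwd, _⟩ := exists_ne_zero_perp2 h2 (D j₀) (S.dec.cmp w j₀)
          (S.dec.cmp w j₀) (by rw [S.fr, hk3])
        have hlj : l = j₀ := S.dec.eq_of_mem (hl (hmemE d hd hwd)) hd hd0
        subst hlj
        exact hl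
      · exfalso
        obtain ⟨p, hp⟩ := S.thin hk3 hs0 hs1 hsK hP j₀
        have h1 : finrank F (perp h2 (D j₀) (S.dec.cmp w j₀)) ≤ 1 := by
          apply finrank_le_one_of_le_span p
          intro d hd
          rw [mem_perp] at hd
          obtain ⟨c, hc⟩ := hp d (hmemE d hd.1 hd.2)
          rw [S.dec.cmp_self hd.1] at hc
          exact ⟨c, hc⟩
        have h3 := finrank_perp h2 (D j₀) (S.dec.cmp w j₀)
        rw [S.fr] at h3
        omega
    obtain ⟨d, hd, hwd⟩ := (S.ndD j₀).exists_one (S.dec.cmp_mem w j₀) hj₀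
    have hdw : bf d w = 1 := by rw [S.dec.bf_cmp' hd, bf_comm]; exact hwd
    have h1 := hPle (act_mem_pc (h2 := h2) (g := sg h2 w n) hd)
    rw [sg_act h2 w n hQw hwn, hdw] at h1
    refine ⟨-(bf d n - Q n * 1), ?_⟩
    have : -(bf d n - Q n * 1) • w + n
        = d - (d + (bf d n - Q n * 1) • w - (1 : F) • n) := by module
    rw [this]
    exact (D j₀).sub_mem hd h1
  obtain ⟨c, hc⟩ := claim j hj
  obtain ⟨c', hc'⟩ := claim j' hj'
  have h0 := S.dec.orth j j' (Ne.symm hj'j) _ hc _ hc'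
  rw [bf_add_left, bf_add_right, bf_add_right, bf_smul_left, bf_smul_left, bf_smul_right,
    bf_smul_right, bf_self w, hQw, hwn, bf_comm n w, hwn, bf_self n] at h0
  have : (2 : F) * Q n = 0 := by linear_combination h0
  exact mul_ne_zero h2 hQn this

end DSetup

end Cfsg.Agent.Lib.Helper48.ODec
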