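import Mathlib
import Cfsg.Agent.Lib.Helper48.ODec.Big
import Cfsg.Agent.Lib.Helper48.ODec.ThreeC

set_option autoImplicit false
set_option linter.unusedSectionVars false
set_option linter.unusedVariables false
set_option linter.unusedSimpArgs false

/-! Maximality of the stabiliser of an orthogonal decomposition in `Ω_{2m+1}(q)`. -/

namespace Cfsg.Agent.Lib.Helper48.ODec

open scoped Matrix commutatorElement
open Matrix Module Cfsg.Agent.Lib.Helper48.OSub
open Cfsg.Agent.Lib.Helper43 hiding Q_add Q_smul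

variable {F : Type*} [Field F] [Fintype F] {m t : ℕ} {h2 : (2 : F) ≠ 0}

local notation "Q" => Cfsg.quadFormOdd _ _

variable {D : Fin t → Submodule F (Idx m → F)} {k : ℕ} {K : Subgroup (OG m h2)}

namespace DSetup

variable (S : DSetup h2 D k K)

include S

theorem each (hk35 : k = 3 ∨ 5 ≤ k) {g : OG m h2} (hg : g ∈ K) (i : Fin t) :
    ∃ l, pc h2 D g i ≤ D l := by
  rcases hk35 with hk3 | h5
  · rcases S.hex with h5 | ⟨s, hs0, hs1⟩
    · omega
    · exact S.three hk3 hs0 hs1 hg i
  · exact S.big h5 hg i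

/-- every element of `K` permutes the blocks -/
theorem main (hk35 : k = 3 ∨ 5 ≤ k) {g : OG m h2} (hg : g ∈ K) : StabD h2 D g := by
  choose f hf using (fun i => S.each hk35 hg i)
  choose f' hf' using (fun i => S.each hk35 (K.inv_mem hg) i)
  have h1 : ∀ i, f' (f i) = i := by
    intro i
    obtain ⟨x, hx, hx0, _⟩ := S.exists_sing i
    have h3 : act h2 g x ∈ D (f i) := hf i (act_mem_pc hx)
    have h4 : act h2 g⁻¹ (act h2 g x) ∈ D (f' (f i)) := hf' (f i) (act_mem_pc h3)
    rw [act_inv_act] at h4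
    exact (S.dec.eq_of_mem hx h4 hx0).symm
  have h3 : ∀ i, f (f' i) = i := by
    intro i
    obtain ⟨x, hx, hx0, _⟩ := S.exists_sing i
    have h3 : act h2 g⁻¹ x ∈ D (f' i) := hf' i (act_mem_pc hx)
    have h4 : act h2 g (act h2 g⁻¹ x) ∈ D (f (f' i)) := hf (f' i) (act_mem_pc h3)
    rw [act_act_inv] at h4
    exact (S.dec.eq_of_mem hx h4 hx0).symm
  exact ⟨⟨f, f', h1, h3⟩, fun i x hx => hf i (act_mem_pc hx)⟩

end DSetup

/-- the decomposition data in terms of `bf` -/
theorem dec_of (hD : Cfsg.Geo.IsOrthogonalMDecomposition (Cfsg.quadFormOdd m F) k D) : Dec D := by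
  refine ⟨?_, ?_, ?_⟩
  · intro i j hij x hx y hy
    rw [← polar_eq_bf]
    exact hD.decomp.orthogonal i j hij x hx y hy
  · intro i x hx hall
    by_contra hx0
    obtain ⟨-, y, hy, hne⟩ := hD.decomp.nondegenerate i x hx hx0
    apply hne
    rw [polar_eq_bf]
    exact hall y hy
  · intro v
    have hv : v ∈ iSup D := by rw [hD.decomp.decomp.iSup_eq_top]; exact Submodule.mem_top
    obtain ⟨f, hf, hsum⟩ := (Submodule.mem_iSup_iff_exists_finsupp D v).mp hv
    refine ⟨fun i => f i, hf, ?_⟩
    rw [← hsum, Finsupp.sum_fintype]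
    intro i; rfl

theorem card_mul_eq (hD : Cfsg.Geo.IsOrthogonalMDecomposition (Cfsg.quadFormOdd m F) k D) :
    t * k = 2 * m + 1 := by
  have hint := DirectSum.isInternal_submodule_of_iSupIndep_of_iSup_eq_top
    hD.decomp.decomp.indep hD.decomp.decomp.iSup_eq_top
  have h1 := (LinearEquiv.ofBijective (DirectSum.coeLinearMap D) hint).finrank_eq
  rw [Module.finrank_directSum] at h1
  have h3 : ∑ i : Fin t, finrank F (D i) = t * k := by
    rw [Finset.sum_congr rfl (fun i _ => hD.decomp.decomp.finrank_eq i)]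
    simp
  have h4 : finrank F (Idx m → F) = 2 * m + 1 := by
    rw [Module.finrank_fintype_fun_eq_card, Fintype.card_sum, Fintype.card_sum, Fintype.card_fin,
      Fintype.card_unit]
    ring
  rw [h3, h4] at h1
  exact h1

theorem exists_s (hodd : Odd (Fintype.card F)) (h3 : Fintype.card F ≠ 3) :
    ∃ s : F, s ≠ 0 ∧ s ^ 2 ≠ 1 := by
  classical
  by_contra hcon
  push Not at hcon
  have hsub : (Finset.univ : Finset F) ⊆ {0, 1, -1} := by
    intro s _
    by_cases hs : s = 0
    · simp [hs]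
    · have h1 := hcon s hs
      have : (s - 1) * (s + 1) = 0 := by linear_combination h1
      rcases mul_eq_zero.mp this with h | h
      · have : s = 1 := by linear_combination h
        simp [this]
      · have : s = -1 := by linear_combination h
        simp [this]
  have h1 := Finset.card_le_card hsub
  have h4 : ({0, 1, -1} : Finset F).card ≤ 3 := Finset.card_le_three
  rw [Finset.card_univ] at h1
  have h5 : 1 < Fintype.card F := Fintype.one_lt_card
  obtain ⟨r, hr⟩ := hodd
  omega

variable (h2)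

include h2

/-- **the stabiliser of an orthogonal decomposition is maximal in `Ω`** -/
theorem maximal_dec (hodd : Odd (Fintype.card F)) (hm : 6 ≤ m) (hk : 1 < k)
    (hD : Cfsg.Geo.IsOrthogonalMDecomposition (Cfsg.quadFormOdd m F) k D)
    (hex : ¬ (Fintype.card F = 3 ∧ k = 3)) :
    Cfsg.Geo.IsMaximalIn (Cfsg.Geo.omegaGL (Cfsg.quadFormOdd m F))
      (Cfsg.Geo.decompositionStabilizer D ⊓ Cfsg.Geo.omegaGL (Cfsg.quadFormOdd m F)) := by
  have hdec : Dec D := dec_of hD
  have htk := card_mul_eq hD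
  have ht2 : 2 ≤ t := hD.decomp.decomp.two_le
  have hk35 : k = 3 ∨ 5 ≤ k := by
    rcases Nat.lt_or_ge k 5 with h | h
    · left
      have h24 : k ≠ 2 ∧ k ≠ 4 := by
        constructor
        · rintro rfl; omega
        · rintro rfl; omega
      omega
    · right; exact h
  have hk3 : 3 ≤ k := by rcases hk35 with h | h <;> omega
  have hfr : ∀ i, finrank F (D i) = k := hD.decomp.decomp.finrank_eq
  have hex' : 5 ≤ k ∨ ∃ s : F, s ≠ 0 ∧ s ^ 2 ≠ 1 := by
    rcases hk35 with h | h
    · right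
      apply exists_s hodd
      intro h3
      exact hex ⟨h3, h⟩
    · left; exact h
  have hND : ∀ i, ND (D i) := hdec.nd
  constructor
  · refine lt_of_le_of_ne inf_le_right ?_
    intro heq
    set i0 : Fin t := ⟨0, by omega⟩ with hi0
    set i1 : Fin t := ⟨1, by omega⟩ with hi1
    have h01 : i0 ≠ i1 := by
      intro h
      have := congrArg Fin.val h
      simp [hi0, hi1] at this
    obtain ⟨u, hu, hu0, hQu⟩ := exists_singular h2 (D i0) (by rw [hfr]; exact hk3)
    obtain ⟨z, hz, hz0, _⟩ := exists_singular h2 (D i1) (by rw [hfr]; exact hk3)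
    have huz : bf u z = 0 := hdec.orth i0 i1 h01 u hu z hz
    have hgΩ : sg h2 u z ∈ Cfsg.Omega F ⇑(Qf m h2) := sg_mem_Omega h2 (by omega) u z hQu huz
    have hmem : ((sg h2 u z : OG m h2) : GL (Idx m) F) ∈
        Cfsg.Geo.omegaGL (Cfsg.quadFormOdd m F) :=
      (mem_omegaGL_iff h2 _).mpr ⟨sg h2 u z, hgΩ, rfl⟩
    rw [← heq] at hmem
    obtain ⟨σ, hσ⟩ := (stabD_iff_mem h2 hdec _).mpr hmem.1
    obtain ⟨d, hd, hud⟩ := (hND i0).exists_one hu hu0
    have hdu : bf d u = 1 := by rw [bf_comm]; exact hud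
    have h1 := hσ i0 d hd
    rw [sg_act h2 u z hQu huz, hdu, hdec.orth i0 i1 h01 d hd z hz] at h1
    -- the vector `d - Q z • u - z` has two nonzero components
    have hv : d + (0 - Q z * 1) • u - (1 : F) • z = (d - Q z • u) - z := by module
    rw [hv] at h1
    have hc0 : hdec.cmp ((d - Q z • u) - z) i0 = d - Q z • u := by
      rw [hdec.cmp_sub_apply, hdec.cmp_self ((D i0).sub_mem hd ((D i0).smul_mem _ hu)),
        hdec.cmp_other hz h01, sub_zero]
    have hc1 : hdec.cmp ((d - Q z • u) - z) i1 = -z := by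
      rw [hdec.cmp_sub_apply, hdec.cmp_other ((D i0).sub_mem hd ((D i0).smul_mem _ hu))
        (Ne.symm h01), hdec.cmp_self hz, zero_sub]
    have hne0 : d - Q z • u ≠ 0 := by
      intro h
      have : bf (d - Q z • u) u = 1 := by
        rw [bf_sub_left, bf_smul_left, hdu, bf_self, hQu]; ring
      rw [h, bf_zero_left] at this
      exact zero_ne_one this
    by_cases hσ0 : σ i0 = i0
    · rw [hσ0] at h1
      have := hdec.cmp_other h1 (Ne.symm h01)
      rw [hc1] at this
      exact hz0 (neg_eq_zero.mp this)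
    · have := hdec.cmp_other h1 (Ne.symm hσ0)
      rw [hc0] at this
      exact hne0 this
  · intro M hHM hMS
    by_cases hMtop : M = Cfsg.Geo.omegaGL (Cfsg.quadFormOdd m F)
    · right; exact hMtop
    left
    set K : Subgroup (OG m h2) := M.comap (Cfsg.isometryGroup F ⇑(Qf m h2)).subtype with hK
    have hmemK : ∀ g : OG m h2, g ∈ K ↔ (g : GL (Idx m) F) ∈ M := fun g => Iff.rfl
    have hKΩ : K ≤ Cfsg.Omega F ⇑(Qf m h2) := by
      intro g hg
      obtain ⟨g', hg'Ω, hg'⟩ := (mem_omegaGL_iff h2 _).mp (hMS ((hmemK g).mp hg))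
      have : g' = g := Subtype.ext hg'
      rw [← this]; exact hg'Ω
    have S : DSetup h2 D k K := by
      refine ⟨hm, hdec, hk3, hfr, hD.isometric, ht2, hex', hKΩ, ?_, ?_⟩
      · intro g hgΩ hgs
        rw [hmemK]
        apply hHM
        exact ⟨(stabD_iff_mem h2 hdec g).mp hgs, (mem_omegaGL_iff h2 _).mpr ⟨g, hgΩ, rfl⟩⟩
      · by_contra hcon
        push Not at hcon
        apply hMtop
        apply le_antisymm hMS
        intro x hx
        obtain ⟨g, hgΩ, rfl⟩ := (mem_omegaGL_iff h2 _).mp hx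
        exact (hmemK g).mp (hcon g hgΩ)
    apply le_antisymm _ hHM
    intro x hx
    obtain ⟨g, hgΩ, rfl⟩ := (mem_omegaGL_iff h2 _).mp (hMS hx)
    have hgK : g ∈ K := (hmemK g).mpr hx
    exact ⟨(stabD_iff_mem h2 hdec g).mp (S.main hk35 hgK), hMS hx⟩

end Cfsg.Agent.Lib.Helper48.ODec
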